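import Groth.Agent.EtShriekLib.Supp
import Groth.Agent.EtFound.PropPush

/-! excision for sections supported in a closed set -/

universe u

open CategoryTheory CategoryTheory.Limits AlgebraicGeometry Opposite

namespace Groth.Agent.EtShriekLib

set_option backward.isDefEq.respectTransparency.types false

/-- a geometric point is determined by its image point when the residue extension below is trivial -/
theorem point_eq_of_residue_bijective {A B : Scheme.{u}} (φ : A ⟶ B) {Ω : Type u} [Field Ω]
    (a b : Spec (CommRingCat.of Ω) ⟶ A)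
    (hpt : a.base (default : Spec (CommRingCat.of Ω)) = b.base (default : Spec (CommRingCat.of Ω)))
    (hres : Function.Bijective (φ.residueFieldMap (a.base (default : Spec (CommRingCat.of Ω)))))
    (e : a ≫ φ = b ≫ φ) : a = b := by
  obtain ⟨⟨x, α⟩, rfl⟩ := (Scheme.SpecToEquivOfField Ω A).symm.surjective a
  obtain ⟨⟨y, β⟩, rfl⟩ := (Scheme.SpecToEquivOfField Ω A).symm.surjective b
  have hp : ∀ (z : A) (γ : A.residueField z ⟶ CommRingCat.of Ω),
      ((Scheme.SpecToEquivOfField Ω A).symm ⟨z, γ⟩).base (default : Spec (CommRingCat.of Ω)) = z := fun z γ => by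
    show (Spec.map γ ≫ A.fromSpecResidueField z).base _ = z
    exact (Scheme.Hom.comp_apply _ _ _).trans (Scheme.fromSpecResidueField_apply z _)
  rw [hp, hp] at hpt
  subst hpt
  rw [hp] at hres
  change (Spec.map α ≫ A.fromSpecResidueField x) ≫ φ = (Spec.map β ≫ A.fromSpecResidueField x) ≫ φ at e
  rw [Category.assoc, Category.assoc, ← Scheme.Hom.SpecMap_residueFieldMap_fromSpecResidueField, ← Category.assoc,
    ← Category.assoc, cancel_mono, ← Spec.map_comp, ← Spec.map_comp] at e
  have : IsIso (φ.residueFieldMap x) := (ConcreteCategory.isIso_iff_bijective _).2 hres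
  rw [(cancel_epi (φ.residueFieldMap x)).1 (Spec.map_injective e)]

variable {X : Scheme.{u}} (F : EtCoh.Ab X) {U U' : X.Etale}

/-- a section supported in the inverse image of `Z` comes from a section supported in `Z` -/
theorem exists_supported_ext (φ : U' ⟶ U) (Z : Set ↥U.left) (hZ : IsClosed Z)
    (hinj : Set.InjOn φ.left.base (φ.left.base ⁻¹' Z)) (hsurj : Set.SurjOn φ.left.base (φ.left.base ⁻¹' Z) Z)
    (hres : ∀ x ∈ φ.left.base ⁻¹' Z, Function.Bijective (φ.left.residueFieldMap x))
    (s' : EtCoh.sect F U') (hs' : EtShriek.sectSupp F U' s' ⊆ φ.left.base ⁻¹' Z) :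
    s' ∈ (F.obj.map φ.op) '' {s | EtShriek.sectSupp F U s ⊆ Z} := by
  let O : U.left.Opens := ⟨Zᶜ, hZ.isOpen_compl⟩
  let Wf : ULift.{u} Bool → X.Etale := fun c => match c with
    | ⟨true⟩ => U'
    | ⟨false⟩ => EtFound.restrictEtale U O
  let gf : ∀ c, Wf c ⟶ U := fun c => match c with
    | ⟨true⟩ => φ
    | ⟨false⟩ => EtFound.restrictEtaleHom U O
  let ts : ∀ c, ToType (F.obj.obj (op (Wf c))) := fun c => match c with
    | ⟨true⟩ => s'
    | ⟨false⟩ => (0 : EtCoh.sect F (EtFound.restrictEtale U O))
  have h := ((isSheaf_iff_isSheaf_of_type _ _).1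
    ((sheafCompose X.smallEtaleTopology (forget AddCommGrpCat.{u + 1})).obj F).property)
    (Sieve.generate (Presieve.ofArrows Wf gf)) (X := U) (by
      refine (EtFound.mem_topology_iff _).2 fun x => ?_
      by_cases hx : x ∈ Z
      · obtain ⟨x', -, hx'⟩ := hsurj hx
        exact ⟨_, φ, x', Sieve.le_generate _ _ _ (Presieve.ofArrows.mk (f := gf) ⟨true⟩), hx'⟩
      · exact ⟨_, EtFound.restrictEtaleHom U O, ⟨x, hx⟩,
          Sieve.le_generate _ _ _ (Presieve.ofArrows.mk (f := gf) ⟨false⟩), rfl⟩)
  rw [← Presieve.isSheafFor_iff_generate, Presieve.isSheafFor_arrows_iff] at h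
  have hz : ∀ {W : X.Etale} (g : W ⟶ U') (g' : W ⟶ EtFound.restrictEtale U O),
      g ≫ φ = g' ≫ EtFound.restrictEtaleHom U O → F.obj.map g.op s' = 0 := by
    intro W g g' e
    refine eq_zero_of_sectSupp_eq_empty ?_
    rw [sectSupp_map]
    refine Set.eq_empty_of_forall_notMem fun w hw => ?_
    have h1 : φ.left.base (g.left.base w) = O.ι.base (g'.left.base w) :=
      (Scheme.Hom.comp_apply _ _ w).symm.trans ((congrArg (fun k : _ ⟶ U.left => k.base w)
        (congrArg (fun k => k.left) e)).trans (Scheme.Hom.comp_apply _ _ w))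
    exact (g'.left.base w).2 (show O.ι.base (g'.left.base w) ∈ Z from h1 ▸ hs' hw)
  obtain ⟨s, hs, -⟩ := h ts (fun a b W ga gb e => by
    obtain ⟨a⟩ := a
    obtain ⟨b⟩ := b
    cases a <;> cases b
    · change F.obj.map ga.op (0 : EtCoh.sect F (EtFound.restrictEtale U O)) = F.obj.map gb.op (0 : EtCoh.sect F (EtFound.restrictEtale U O))
      exact (map_zero _).trans (map_zero _).symm
    · change F.obj.map ga.op (0 : EtCoh.sect F (EtFound.restrictEtale U O)) = F.obj.map gb.op s'
      exact (map_zero _).trans (hz gb ga e.symm).symm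
    · change F.obj.map ga.op s' = F.obj.map gb.op (0 : EtCoh.sect F (EtFound.restrictEtale U O))
      exact (hz ga gb e).trans (map_zero _).symm
    · change F.obj.map ga.op s' = F.obj.map gb.op s'
      refine sub_eq_zero.1 (eq_zero_of_sectSupp_eq_empty (Set.eq_empty_of_forall_notMem fun w hw => ?_))
      obtain ⟨Ω, _, _, ξ, v, hv⟩ := EtFound.exists_point_through W w
      have h0 := (mem_sectSupp_iff_germ' _ ξ v hv).1 hw
      rw [map_sub, (Scheme.pointSmallEtale ξ).toPresheafFiber_w_apply ga v F.obj s',
        (Scheme.pointSmallEtale ξ).toPresheafFiber_w_apply gb v F.obj s'] at h0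
      let va := (Scheme.pointSmallEtale ξ).fiber.map ga v
      let vb := (Scheme.pointSmallEtale ξ).fiber.map gb v
      let la : Spec (CommRingCat.of Ω) ⟶ U'.left := va.left
      let lb : Spec (CommRingCat.of Ω) ⟶ U'.left := vb.left
      have el : la ≫ φ.left = lb ≫ φ.left :=
        congrArg Over.Hom.left (show (Scheme.pointSmallEtale ξ).fiber.map φ va = (Scheme.pointSmallEtale ξ).fiber.map φ vb by
          simp only [va, vb, ← Functor.map_comp_apply]
          exact congrArg (fun k => (Scheme.pointSmallEtale ξ).fiber.map k v) e)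
      by_cases hZa : φ.left.base (la.base default) ∈ Z
      · have hZb : φ.left.base (lb.base default) ∈ Z := by
          rwa [← Scheme.Hom.comp_apply, ← el, Scheme.Hom.comp_apply]
        have epts : la.base default = lb.base default := hinj hZa hZb (by
          rw [← Scheme.Hom.comp_apply, el, Scheme.Hom.comp_apply])
        have : va = vb := CategoryTheory.Over.OverMorphism.ext
          (point_eq_of_residue_bijective φ.left la lb epts (hres _ hZa) el)
        exact h0 (sub_eq_zero.2 (congrArg (fun q => (Scheme.pointSmallEtale ξ).toPresheafFiber U' q F.obj s') this))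
      · have hZb : φ.left.base (lb.base default) ∉ Z := by
          rwa [← Scheme.Hom.comp_apply, ← el, Scheme.Hom.comp_apply]
        have ha := not_not.1 (mt (mem_sectSupp_iff_germ s' ξ va).2 fun h => hZa (hs' h))
        have hb := not_not.1 (mt (mem_sectSupp_iff_germ s' ξ vb).2 fun h => hZb (hs' h))
        exact h0 (sub_eq_zero.2 (ha.trans hb.symm)))
  refine ⟨s, fun x hx => ?_, hs ⟨true⟩⟩
  by_contra hxZ
  exact hx _ (EtFound.restrictEtaleHom U O) ⟨⟨x, hxZ⟩, rfl⟩ (hs ⟨false⟩)

end Groth.Agent.EtShriekLib
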