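import Groth.Prelude.Def_EtShriek2
import Groth.Agent.EtFound.Germ
import Groth.Agent.EtFound.Stalk
import Groth.Agent.QCoh.ProperOver2
import Mathlib.AlgebraicGeometry.Morphisms.UniversallyOpen

/-! supports of sections of abelian sheaves on the small etale site -/

universe u

open CategoryTheory CategoryTheory.Limits AlgebraicGeometry Opposite

namespace Groth.Agent.EtShriekLib

set_option backward.isDefEq.respectTransparency.types false

variable {X : Scheme.{u}} {F : EtCoh.Ab X}

theorem map_map_apply {U U' U'' : X.Etale} (g : U' ⟶ U) (h : U'' ⟶ U') (s : EtCoh.sect F U) :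
    F.obj.map h.op (F.obj.map g.op s) = F.obj.map (h ≫ g).op s := by
  rw [op_comp, Functor.map_comp]; rfl

theorem not_mem_sectSupp_iff {U : X.Etale} {s : EtCoh.sect F U} {x : U.left} :
    x ∉ EtShriek.sectSupp F U s ↔
      ∃ (W : X.Etale) (g : W ⟶ U), (∃ w : W.left, g.left.base w = x) ∧ F.obj.map g.op s = 0 := by
  simp [EtShriek.sectSupp]

theorem isClosed_sectSupp (U : X.Etale) (s : EtCoh.sect F U) : IsClosed (EtShriek.sectSupp F U s) := by
  refine ⟨isOpen_iff_forall_mem_open.2 fun x hx => ?_⟩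
  obtain ⟨W, g, hw, h0⟩ := not_mem_sectSupp_iff.1 hx
  have := EtFound.etale_left g
  exact ⟨Set.range g.left.base, fun y hy h => h W g hy h0, g.left.isOpenMap.isOpen_range, hw⟩

/-- the support is detected by germs at geometric points -/
theorem mem_sectSupp_iff_germ {U : X.Etale} (s : EtCoh.sect F U) {Ω : Type u} [Field Ω] [IsSepClosed Ω]
    (ξ : Spec (CommRingCat.of Ω) ⟶ X) (v : (Scheme.pointSmallEtale ξ).fiber.obj U) :
    (v.left : Spec (CommRingCat.of Ω) ⟶ U.left).base (default : Spec (CommRingCat.of Ω)) ∈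
        EtShriek.sectSupp F U s ↔
      (Scheme.pointSmallEtale ξ).toPresheafFiber U v F.obj s ≠ 0 := by
  constructor
  · intro hx h0
    obtain ⟨W, g, w, hw, hs⟩ := ((Scheme.pointSmallEtale ξ).toPresheafFiber_eq_iff' U v s 0).1
      (h0.trans (map_zero _).symm)
    refine hx W g ⟨(w.left : Spec (CommRingCat.of Ω) ⟶ W.left).base (default : Spec (CommRingCat.of Ω)), ?_⟩
      (hs.trans (map_zero _))
    rw [← hw]
    exact (Scheme.Hom.comp_apply _ _ _).symm
  · rintro hp W g ⟨w, hw⟩ h0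
    obtain ⟨v', hv', -⟩ := EtFound.exists_lift_point g v w hw
    refine hp ?_
    rw [← hv']
    refine ((Scheme.pointSmallEtale ξ).toPresheafFiber_w_apply g v' F.obj s).symm.trans ?_
    rw [h0]
    exact map_zero _

theorem mem_sectSupp_iff_germ' {U : X.Etale} (s : EtCoh.sect F U) {Ω : Type u} [Field Ω] [IsSepClosed Ω]
    (ξ : Spec (CommRingCat.of Ω) ⟶ X) (v : (Scheme.pointSmallEtale ξ).fiber.obj U) {x : U.left}
    (hv : ∀ w : Spec (CommRingCat.of Ω), (v.left : Spec (CommRingCat.of Ω) ⟶ U.left).base w = x) :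
    x ∈ EtShriek.sectSupp F U s ↔ (Scheme.pointSmallEtale ξ).toPresheafFiber U v F.obj s ≠ 0 := by
  have h := mem_sectSupp_iff_germ (F := F) s ξ v
  rwa [hv default] at h

theorem sectSupp_map {U U' : X.Etale} (g : U' ⟶ U) (s : EtCoh.sect F U) :
    EtShriek.sectSupp F U' (F.obj.map g.op s) = g.left.base ⁻¹' EtShriek.sectSupp F U s := by
  ext x
  obtain ⟨Ω, _, _, ξ, v, hv⟩ := EtFound.exists_point_through U' x
  have e : ((Scheme.pointSmallEtale ξ).fiber.map g v).left.base (default : Spec (CommRingCat.of Ω)) = g.left.base x := by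
    rw [← hv default]
    exact Scheme.Hom.comp_apply _ _ _
  have h1 := mem_sectSupp_iff_germ (F := F) (F.obj.map g.op s) ξ v
  rw [hv default] at h1
  have h2 := mem_sectSupp_iff_germ (F := F) s ξ ((Scheme.pointSmallEtale ξ).fiber.map g v)
  rw [e] at h2
  refine h1.trans (Iff.trans ?_ h2.symm)
  exact not_congr (Eq.congr_left ((Scheme.pointSmallEtale ξ).toPresheafFiber_w_apply g v F.obj s))

theorem sectSupp_zero (U : X.Etale) : EtShriek.sectSupp F U (0 : EtCoh.sect F U) = ∅ :=
  Set.eq_empty_of_forall_notMem fun x hx => hx U (𝟙 U) ⟨x, rfl⟩ (map_zero _)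

theorem sectSupp_neg (U : X.Etale) (s : EtCoh.sect F U) :
    EtShriek.sectSupp F U (-s) = EtShriek.sectSupp F U s := by
  ext x
  obtain ⟨Ω, _, _, ξ, v, hv⟩ := EtFound.exists_point_through U x
  refine (mem_sectSupp_iff_germ' _ ξ v hv).trans (Iff.trans ?_ (mem_sectSupp_iff_germ' _ ξ v hv).symm)
  rw [map_neg]
  exact neg_ne_zero

theorem sectSupp_add (U : X.Etale) (s t : EtCoh.sect F U) :
    EtShriek.sectSupp F U (s + t) ⊆ EtShriek.sectSupp F U s ∪ EtShriek.sectSupp F U t := by
  intro x hx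
  obtain ⟨Ω, _, _, ξ, v, hv⟩ := EtFound.exists_point_through U x
  have hx' := (mem_sectSupp_iff_germ' _ ξ v hv).1 hx
  rw [map_add] at hx'
  by_contra h
  obtain ⟨h1, h2⟩ := not_or.1 h
  rw [not_not.1 (fun h' => h1 ((mem_sectSupp_iff_germ' _ ξ v hv).2 h')),
    not_not.1 (fun h' => h2 ((mem_sectSupp_iff_germ' _ ξ v hv).2 h')), add_zero] at hx'
  exact hx' rfl

/-- sections agreeing on a covering sieve are equal -/
theorem eq_of_locally {U : X.Etale} (s t : EtCoh.sect F U)
    (h : ∀ x : U.left, ∃ (W : X.Etale) (g : W ⟶ U), (∃ w : W.left, g.left.base w = x) ∧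
      F.obj.map g.op s = F.obj.map g.op t) : s = t := by
  have hS : Presheaf.equalizerSieve (X := op U) s t ∈ X.smallEtaleTopology U := by
    rw [EtFound.mem_topology_iff]
    intro x
    obtain ⟨W, g, ⟨w, hw⟩, hg⟩ := h x
    exact ⟨W, g, w, hg, hw⟩
  exact (((isSheaf_iff_isSheaf_of_type _ _).1
    ((sheafCompose X.smallEtaleTopology (forget AddCommGrpCat.{u + 1})).obj F).property).isSeparated
      _ hS).ext fun V g hg => hg

theorem eq_zero_of_sectSupp_eq_empty {U : X.Etale} {s : EtCoh.sect F U}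
    (h : EtShriek.sectSupp F U s = ∅) : s = 0 := by
  refine eq_of_locally s 0 fun x => ?_
  obtain ⟨W, g, hw, h0⟩ := not_mem_sectSupp_iff.1 (h ▸ Set.notMem_empty x : x ∉ EtShriek.sectSupp F U s)
  exact ⟨W, g, hw, h0.trans (map_zero _).symm⟩

theorem sectSupp_eq_empty_iff {U : X.Etale} {s : EtCoh.sect F U} :
    EtShriek.sectSupp F U s = ∅ ↔ s = 0 :=
  ⟨eq_zero_of_sectSupp_eq_empty, fun h => h ▸ sectSupp_zero U⟩

end Groth.Agent.EtShriekLib
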