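import Groth.Agent.EtShriekLib.Proper
import Groth.Agent.EtFound.PushOutside

/-! direct images with proper support compose -/

universe u

open CategoryTheory CategoryTheory.Limits AlgebraicGeometry Opposite

namespace Groth.Agent.EtShriekLib

set_option backward.isDefEq.respectTransparency.types false
set_option maxHeartbeats 800000

/-- proper over `Q` with image proper over the base is proper over the base -/
theorem isProperOver_comp {P Q W : Scheme.{u}} (p : P ⟶ Q) (q : Q ⟶ W) [LocallyOfFiniteType p]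
    [LocallyOfFiniteType q] {Z : Set P} {C : Set Q} (hZ : ClSub.IsProperOver p Z) (hC : ClSub.IsProperOver q C)
    (h : Z ⊆ p.base ⁻¹' C) : ClSub.IsProperOver (p ≫ q) Z := by
  obtain ⟨hZc, hZp⟩ := hZ
  refine ⟨hZc, ?_⟩
  let i := (Scheme.IdealSheafData.vanishingIdeal ⟨Z, hZc⟩).subschemeι
  have : IsProper (i ≫ p) := hZp
  have hu : ClSub.IsProperOver ((i ≫ p) ≫ q) ((i ≫ p).base ⁻¹' C) := QCoh.IsProperOver.preimage rfl hC
  have h1 := QCoh.isProper_comp_of_isProperOver (𝟙 _) hu (fun z _ => ?_)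
  · simpa using h1
  · show (i ≫ p).base z ∈ C
    rw [Scheme.Hom.comp_apply]
    exact h ((QCoh.range_vanishing hZc).le ⟨z, rfl⟩)

/-- proper over the base and separated gives proper over the intermediate, with proper image -/
theorem isProperOver_of_comp {P Q W : Scheme.{u}} (p : P ⟶ Q) (q : Q ⟶ W) [LocallyOfFiniteType p]
    [LocallyOfFiniteType q] [IsSeparated q] {Z : Set P} (hZ : ClSub.IsProperOver (p ≫ q) Z) :
    ClSub.IsProperOver p Z ∧ ClSub.IsProperOver q (p.base '' Z) := by
  refine ⟨?_, QCoh.IsProperOver.image rfl hZ fun {T} i _ hi => ?_⟩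
  · obtain ⟨hZc, hZp⟩ := hZ
    refine ⟨hZc, ?_⟩
    let i := (Scheme.IdealSheafData.vanishingIdeal ⟨Z, hZc⟩).subschemeι
    have : IsProper ((i ≫ p) ≫ q) := by rw [Category.assoc]; exact hZp
    exact IsProper.of_comp (i ≫ p) q
  · have : IsProper ((i ≫ p) ≫ q) := by rw [Category.assoc]; exact hi
    exact UniversallyClosed.of_comp_of_isSeparated (i ≫ p) q

variable {X Y Z : Scheme.{u}} (f : X ⟶ Y) [LocallyOfFiniteType f]

/-- the support of a section of `f_! F` is the image of the support -/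
theorem sectSupp_shriekSh (F : EtCoh.Ab X) (Q : Y.Etale) (t : EtCoh.sect ((shriekSh f).obj F) Q) :
    EtShriek.sectSupp ((shriekSh f).obj F) Q t =
      (EtShriek.prV f Q).base '' EtShriek.sectSupp F ((EtCoh.bc f).obj Q) t.1 := by
  have hcl : IsClosed ((EtShriek.prV f Q).base '' EtShriek.sectSupp F ((EtCoh.bc f).obj Q) t.1) := by
    obtain ⟨hZc, hZp⟩ := (mem_shriekSubgroup_iff f).1 t.2
    have : IsProper ((Scheme.IdealSheafData.vanishingIdeal ⟨_, hZc⟩).subschemeι ≫ EtShriek.prV f Q) := hZp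
    have h := ((Scheme.IdealSheafData.vanishingIdeal ⟨_, hZc⟩).subschemeι ≫ EtShriek.prV f Q).isClosedMap.isClosed_range
    have e := Set.range_comp (EtShriek.prV f Q).base (Scheme.IdealSheafData.vanishingIdeal ⟨_, hZc⟩).subschemeι.base
    rw [QCoh.range_vanishing] at e
    rw [← e]
    convert h using 2
    ext z
    exact (Scheme.Hom.comp_apply _ _ z).symm
  ext y
  constructor
  · intro hy
    by_contra hy'
    let O : Q.left.Opens := ⟨_, hcl.isOpen_compl⟩
    refine hy _ (EtFound.restrictEtaleHom Q O) ⟨⟨y, hy'⟩, rfl⟩ (Subtype.ext ?_)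
    refine eq_zero_of_sectSupp_eq_empty ?_
    show EtShriek.sectSupp F _ (F.obj.map ((EtCoh.bc f).map (EtFound.restrictEtaleHom Q O)).op t.1) = ∅
    rw [sectSupp_map]
    refine Set.eq_empty_of_forall_notMem fun z hz =>
      ((EtShriek.prV f (EtFound.restrictEtale Q O)).base z).2 ⟨_, hz, ?_⟩
    exact (Scheme.Hom.comp_apply _ _ z).symm.trans ((congrArg (fun k : _ ⟶ Q.left => k.base z)
      (EtCoh.isPullback_bc_map f (EtFound.restrictEtaleHom Q O)).w).trans (Scheme.Hom.comp_apply _ _ z))
  · rintro ⟨x, hx, rfl⟩ Q' g ⟨q, hq⟩ h0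
    obtain ⟨z, hz, -⟩ := Scheme.Pullback.exists_preimage_pullback (f := EtShriek.prV f Q) (g := g.left) x q hq.symm
    have hempty : EtShriek.sectSupp F _ (F.obj.map ((EtCoh.bc f).map g).op t.1) = ∅ := by
      rw [sectSupp_eq_empty_iff]
      exact congrArg Subtype.val h0
    rw [sectSupp_map] at hempty
    refine (Set.eq_empty_iff_forall_notMem.1 hempty) ((EtCoh.isPullback_bc_map f g).isoPullback.inv.base z) ?_
    show ((EtCoh.bc f).map g).left.base _ ∈ EtShriek.sectSupp F ((EtCoh.bc f).obj Q) t.1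
    rw [← Scheme.Hom.comp_apply, IsPullback.isoPullback_inv_fst]
    exact hz ▸ hx

variable (g : Y ⟶ Z) [LocallyOfFiniteType g]

/-- `X ×_Z W ≅ X ×_Y (Y ×_Z W)` -/
noncomputable abbrev compIso (W : Z.Etale) :
    (EtCoh.bc (f ≫ g)).obj W ≅ (EtCoh.bc f).obj ((EtCoh.bc g).obj W) :=
  ((MorphismProperty.Over.pullbackComp (P := EtCoh.etaleMP.{u}) (Q := ⊤) f g).app W :)

theorem compIso_inv_fst (W : Z.Etale) :
    (compIso f g W).inv.left ≫ EtShriek.prV (f ≫ g) W =
      EtShriek.prV f ((EtCoh.bc g).obj W) ≫ EtShriek.prV g W := by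
  have h := MorphismProperty.Over.pullbackComp_left_fst_fst (P := EtCoh.etaleMP.{u}) (Q := ⊤) f g W
  refine (congrArg ((compIso f g W).inv.left ≫ ·) h.symm).trans ?_
  refine (Category.assoc _ _ _).symm.trans ?_
  refine (congrArg (· ≫ _) (congrArg (fun k => k.left) (compIso f g W).inv_hom_id)).trans ?_
  exact Category.id_comp _

variable [IsSeparated g] {F : EtCoh.Ab X}

/-- the two conditions of proper support agree -/
theorem mem_comp_iff {W : Z.Etale} (s : EtCoh.sect F ((EtCoh.bc (f ≫ g)).obj W)) :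
    s ∈ EtShriek.shriekSubgroup (f ≫ g) F W ↔
      ∃ h : F.obj.map (compIso f g W).inv.op s ∈ EtShriek.shriekSubgroup f F ((EtCoh.bc g).obj W),
        (⟨_, h⟩ : EtCoh.sect ((shriekSh f).obj F) ((EtCoh.bc g).obj W)) ∈
          EtShriek.shriekSubgroup g ((shriekSh f).obj F) W := by
  have : IsSeparated (EtShriek.prV g W) := MorphismProperty.pullback_fst _ _ ‹_›
  have hsq : IsPullback (compIso f g W).inv.left (EtShriek.prV f ((EtCoh.bc g).obj W) ≫ EtShriek.prV g W)
      (EtShriek.prV (f ≫ g) W) (𝟙 W.left) := by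
    have : IsIso (compIso f g W).inv.left := inferInstance
    exact IsPullback.of_horiz_isIso ⟨(compIso_inv_fst f g W).trans (Category.comp_id _).symm⟩
  have hsq' : IsPullback (compIso f g W).hom.left (EtShriek.prV (f ≫ g) W)
      (EtShriek.prV f ((EtCoh.bc g).obj W) ≫ EtShriek.prV g W) (𝟙 W.left) := by
    have : IsIso (compIso f g W).hom.left := inferInstance
    refine IsPullback.of_horiz_isIso ⟨?_⟩
    rw [Category.comp_id, ← compIso_inv_fst]
    exact (Category.assoc _ _ _).symm.trans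
      ((congrArg (· ≫ _) (congrArg (fun k => k.left) (compIso f g W).hom_inv_id)).trans (Category.id_comp _))
  have hs : EtShriek.sectSupp F _ (F.obj.map (compIso f g W).inv.op s) =
      (compIso f g W).inv.left.base ⁻¹' EtShriek.sectSupp F _ s := sectSupp_map _ _
  have hs' : EtShriek.sectSupp F _ s =
      (compIso f g W).hom.left.base ⁻¹' EtShriek.sectSupp F _ (F.obj.map (compIso f g W).inv.op s) := by
    rw [← sectSupp_map]
    refine congrArg _ ?_
    rw [map_map_apply, Iso.hom_inv_id, op_id, CategoryTheory.Functor.map_id]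
    rfl
  rw [mem_shriekSubgroup_iff]
  constructor
  · intro hp
    obtain ⟨h1, h2⟩ := isProperOver_of_comp _ _ (QCoh.IsProperOver.baseChange hsq hp)
    rw [← hs] at h1 h2
    refine ⟨(mem_shriekSubgroup_iff f).2 h1, (mem_shriekSubgroup_iff g).2 ?_⟩
    rw [sectSupp_shriekSh]
    exact h2
  · rintro ⟨h1, h2'⟩
    have h2 := (mem_shriekSubgroup_iff g).1 h2'
    rw [sectSupp_shriekSh] at h2
    rw [mem_shriekSubgroup_iff] at h1
    have := isProperOver_comp _ _ h1 h2 fun z hz => ⟨z, hz, rfl⟩
    rw [hs']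
    exact QCoh.IsProperOver.baseChange hsq' this

theorem compIso_naturality {W W' : Z.Etale} (φ : W' ⟶ W) :
    (EtCoh.bc f).map ((EtCoh.bc g).map φ) ≫ (compIso f g W).inv = (compIso f g W').inv ≫ (EtCoh.bc (f ≫ g)).map φ :=
  (MorphismProperty.Over.pullbackComp (P := EtCoh.etaleMP.{u}) (Q := ⊤) f g).inv.naturality φ

/-- transport of a section with proper support -/
noncomputable def compFun (W : Z.Etale) (s : EtShriek.shriekSubgroup (f ≫ g) F W) :
    EtShriek.shriekSubgroup g ((shriekSh f).obj F) W :=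
  ⟨⟨F.obj.map (compIso f g W).inv.op s.1, ((mem_comp_iff f g s.1).1 s.2).choose⟩,
    ((mem_comp_iff f g s.1).1 s.2).choose_spec⟩

theorem compFun_bijective (W : Z.Etale) : Function.Bijective (compFun f g (F := F) W) := by
  refine ⟨fun a b h => Subtype.ext ?_, fun t => ?_⟩
  · have e := congrArg (fun t : EtShriek.shriekSubgroup g ((shriekSh f).obj F) W => F.obj.map (compIso f g W).hom.op t.1.1) h
    simp only [compFun] at e
    rw [map_map_apply, map_map_apply, Iso.hom_inv_id, op_id, CategoryTheory.Functor.map_id] at e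
    exact e
  · have e : F.obj.map (compIso f g W).inv.op (F.obj.map (compIso f g W).hom.op t.1.1) = t.1.1 := by
      rw [map_map_apply, Iso.inv_hom_id, op_id, CategoryTheory.Functor.map_id]
      rfl
    refine ⟨⟨F.obj.map (compIso f g W).hom.op t.1.1, (mem_comp_iff f g _).2 ⟨?_, ?_⟩⟩, Subtype.ext (Subtype.ext e)⟩
    · exact (congrArg (· ∈ EtShriek.shriekSubgroup f F ((EtCoh.bc g).obj W)) e).mpr t.1.2
    · exact (congrArg (· ∈ EtShriek.shriekSubgroup g ((shriekSh f).obj F) W)
        (Subtype.ext e : (⟨_, _⟩ : EtCoh.sect ((shriekSh f).obj F) ((EtCoh.bc g).obj W)) = t.1)).mpr t.2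

variable (F) in
/-- `(g f)_! F ≅ g_! f_! F` -/
noncomputable def compShriekApp : (shriekSh (f ≫ g)).obj F ≅ (shriekSh g).obj ((shriekSh f).obj F) :=
  (fullyFaithfulSheafToPresheaf _ _).preimageIso (NatIso.ofComponents
    (fun W => (AddEquiv.ofBijective (AddMonoidHom.mk' (compFun f g (F := F) W.unop)
      (fun a b => Subtype.ext (Subtype.ext (map_add (F.obj.map (compIso f g W.unop).inv.op).hom a.1 b.1))))
      (compFun_bijective f g W.unop)).toAddCommGrpIso)
    (fun {W W'} φ => by
      refine AddCommGrpCat.hom_ext (AddMonoidHom.ext fun s => Subtype.ext (Subtype.ext ?_))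
      change F.obj.map (compIso f g W'.unop).inv.op (F.obj.map ((EtCoh.bc (f ≫ g)).map φ.unop).op s.1) =
        F.obj.map ((EtCoh.bc f).map ((EtCoh.bc g).map φ.unop)).op (F.obj.map (compIso f g W.unop).inv.op s.1)
      rw [map_map_apply, map_map_apply]
      exact congrArg (fun k => F.obj.map k.op s.1) (compIso_naturality f g φ.unop).symm))

/-- `(g f)_! ≅ g_! f_!` -/
noncomputable def compShriekIso : shriekSh (f ≫ g) ≅ shriekSh f ⋙ shriekSh g :=
  NatIso.ofComponents (fun F => compShriekApp f g F) fun {F G} a => by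
    apply Sheaf.hom_ext
    ext W s
    refine Subtype.ext (Subtype.ext ?_)
    exact (NatTrans.naturality_apply a.hom (compIso f g W.unop).inv.op s.1).symm

theorem nonempty_lowerShriek_comp :
    Nonempty (EtShriek.lowerShriek (f ≫ g) ≅ EtShriek.lowerShriek f ⋙ EtShriek.lowerShriek g) :=
  ⟨lowerShriekIso (f ≫ g) ≪≫ compShriekIso f g ≪≫
    (Functor.isoWhiskerRight (lowerShriekIso f).symm (shriekSh g)) ≪≫
    Functor.isoWhiskerLeft _ (lowerShriekIso g).symm⟩

omit [LocallyOfFiniteType f] [LocallyOfFiniteType g] [IsSeparated g]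

variable (p : X ⟶ Z) [IsProper p]

/-- for a proper morphism every section has proper support -/
theorem mem_shriekSubgroup_of_proper {F : EtCoh.Ab X} {W : Z.Etale} (s : EtCoh.sect F ((EtCoh.bc p).obj W)) :
    s ∈ EtShriek.shriekSubgroup p F W := by
  rw [mem_shriekSubgroup_iff]
  have : IsProper (EtShriek.prV p W) := MorphismProperty.pullback_fst _ _ ‹_›
  have h : IsProper ((𝟙 ((EtCoh.bc p).obj W).left) ≫ EtShriek.prV p W) := by rw [Category.id_comp]; infer_instance
  exact QCoh.IsProperOver.subset ((QCoh.isProperOver_iff _).2 h) (isClosed_sectSupp _ _) (fun x _ => ⟨x, rfl⟩)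

theorem isIso_shriekShι (F : EtCoh.Ab X) : IsIso ((shriekShι p).app F) := by
  have : ∀ W, IsIso (((sheafToPresheaf _ _).map ((shriekShι p).app F)).app W) := fun W =>
    (ConcreteCategory.isIso_iff_bijective _).2 ⟨shriekShι_injective p F W.unop,
      fun s => ⟨⟨s, mem_shriekSubgroup_of_proper p s⟩, rfl⟩⟩
  have := NatIso.isIso_of_isIso_app ((sheafToPresheaf _ _).map ((shriekShι p).app F))
  exact isIso_of_reflects_iso _ (sheafToPresheaf _ _)

/-- `f_! = f_*` for proper `f` -/
noncomputable def lowerShriekProperIso : EtShriek.lowerShriek p ≅ EtCoh.push p :=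
  have := isIso_shriekShι p
  have : IsIso (shriekShι p) := NatIso.isIso_of_isIso_app _
  lowerShriekIso p ≪≫ asIso (shriekShι p)

end Groth.Agent.EtShriekLib
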