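import Groth.Agent.EtShriekLib.Stalk
import Mathlib.Algebra.Homology.ShortComplex.ExactFunctor
import Mathlib.Algebra.DirectSum.Basic

/-! exactness of direct image with proper support along separated quasi-finite morphisms -/

universe u

open CategoryTheory CategoryTheory.Limits AlgebraicGeometry Opposite

namespace Groth.Agent.EtShriekLib

set_option backward.isDefEq.respectTransparency.types false

variable {X Y : Scheme.{u}}

/-- isomorphisms of abelian sheaves are detected at algebraically closed geometric points -/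
theorem isIso_of_algClosed_stalks {F G : EtCoh.Ab X} (a : F ⟶ G)
    (h : ∀ (Ω : Type u) [Field Ω] [IsAlgClosed Ω] (ξ : Spec (CommRingCat.of Ω) ⟶ X),
      Function.Bijective ((EtCoh.stalk ξ).map a)) : IsIso a := by
  refine (EtFound.isIso_iff_stalks a).2 fun k _ _ ξ => ?_
  let Ω := AlgebraicClosure k
  let l : Spec (CommRingCat.of Ω) ⟶ Spec (CommRingCat.of k) := Spec.map (CommRingCat.ofHom (algebraMap k Ω))
  exact (NatIso.isIso_map_iff (EtFound.stalkExtIso AddCommGrpCat.{u + 1} ξ l) a).2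
    ((ConcreteCategory.isIso_iff_bijective _).2 (h Ω (l ≫ ξ)))

/-- exactness of short complexes of abelian sheaves is detected at algebraically closed geometric points -/
theorem shortExact_of_algClosed_stalks (S : ShortComplex (EtCoh.Ab X))
    (h : ∀ (Ω : Type u) [Field Ω] [IsAlgClosed Ω] (ξ : Spec (CommRingCat.of Ω) ⟶ X),
      (S.map (EtCoh.stalk ξ)).ShortExact) : S.ShortExact := by
  have hk : ∀ (k : Type u) [Field k] [IsSepClosed k] (ξ : Spec (CommRingCat.of k) ⟶ X),
      (S.map (EtCoh.stalk ξ)).ShortExact := fun k _ _ ξ => by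
    let Ω := AlgebraicClosure k
    let l : Spec (CommRingCat.of Ω) ⟶ Spec (CommRingCat.of k) := Spec.map (CommRingCat.ofHom (algebraMap k Ω))
    exact ShortComplex.shortExact_of_iso (S.mapNatIso (EtFound.stalkExtIso AddCommGrpCat.{u + 1} ξ l)).symm
      (h Ω (l ≫ ξ))
  have : Mono S.f := (EtFound.mono_iff_stalks _).2 fun k _ _ ξ => (AddCommGrpCat.mono_iff_injective _).1 (hk k ξ).mono_f
  have : Epi S.g := (EtFound.epi_iff_stalks _).2 fun k _ _ ξ => (AddCommGrpCat.epi_iff_surjective _).1 (hk k ξ).epi_g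
  exact ShortComplex.ShortExact.mk' ((EtFound.exact_iff_stalks S).2 fun k _ _ ξ => (hk k ξ).exact) inferInstance inferInstance

variable (f : X ⟶ Y) [LocallyOfFiniteType f]

instance shriekSh_additive : (shriekSh f).Additive where
  map_add {F G a b} := by
    apply Sheaf.hom_ext
    ext V s
    rfl

theorem shriekShι_mono (F : EtCoh.Ab X) : Mono ((shriekShι f).app F) := by
  have : ∀ V, Mono (((shriekShι f).app F).hom.app V) := fun V =>
    (AddCommGrpCat.mono_iff_injective _).2 (shriekShι_injective f F V.unop)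
  have := NatTrans.mono_of_mono_app ((shriekShι f).app F).hom
  exact (sheafToPresheaf _ _).mono_of_mono_map this

variable [LocallyQuasiFinite f] [IsSeparated f]

theorem shriekSh_shortExact {S : ShortComplex (EtCoh.Ab X)} (hS : S.ShortExact) : (S.map (shriekSh f)).ShortExact := by
  refine shortExact_of_algClosed_stalks _ fun Ω _ _ η => ?_
  have hx : ∀ (ξ : Spec (CommRingCat.of Ω) ⟶ X), (S.map (EtCoh.stalk ξ)).ShortExact := fun ξ => hS.map_of_exact _
  refine ShortComplex.ShortExact.mk' ?_ ?_ ?_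
  · rw [ShortComplex.ab_exact_iff]
    intro q hq
    change (EtCoh.stalk η).obj ((shriekSh f).obj S.X₂) at q
    change (shriekSh f ⋙ EtCoh.stalk η).map S.g q = 0 at hq
    have hl : ∀ ξ : {ξ : Spec (CommRingCat.of Ω) ⟶ X // ξ ≫ f = η},
        ∃ a : (EtCoh.stalk ξ.1).obj S.X₁, (EtCoh.stalk ξ.1).map S.f a = (stalkMapAt f ξ.2).app S.X₂ q := fun ξ =>
      (ShortComplex.ab_exact_iff _).1 (hx ξ.1).exact _ (by
        show (EtCoh.stalk ξ.1).map S.g _ = 0
        rw [← stalkMapAt_naturality, hq, map_zero])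
    choose a ha using hl
    obtain ⟨p, hp⟩ := exists_of_finite f η S.X₁ a ((finite_stalkMapAt_ne_zero f S.X₂ q).subset fun ξ hξ e => hξ
      ((AddCommGrpCat.mono_iff_injective _).1 (hx ξ.1).mono_f ((ha ξ).trans (e.trans (map_zero _).symm))))
    refine ⟨p, ext_stalkMapAt f _ _ _ fun ξ hξ => ?_⟩
    change (stalkMapAt f hξ).app S.X₂ ((shriekSh f ⋙ EtCoh.stalk η).map S.f p) = _
    rw [stalkMapAt_naturality, hp ⟨ξ, hξ⟩]
    exact ha ⟨ξ, hξ⟩
  · refine (AddCommGrpCat.mono_iff_injective _).2 fun p q e => ext_stalkMapAt f _ _ _ fun ξ hξ => ?_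
    refine (AddCommGrpCat.mono_iff_injective _).1 (hx ξ).mono_f ?_
    change (EtCoh.stalk ξ).map S.f _ = (EtCoh.stalk ξ).map S.f _
    rw [← stalkMapAt_naturality, ← stalkMapAt_naturality]
    exact congrArg _ e
  · refine (AddCommGrpCat.epi_iff_surjective _).2 fun q => ?_
    change (EtCoh.stalk η).obj ((shriekSh f).obj S.X₃) at q
    classical
    have hl : ∀ ξ : {ξ : Spec (CommRingCat.of Ω) ⟶ X // ξ ≫ f = η}, ∃ b : (EtCoh.stalk ξ.1).obj S.X₂,
        (EtCoh.stalk ξ.1).map S.g b = (stalkMapAt f ξ.2).app S.X₃ q ∧ ((stalkMapAt f ξ.2).app S.X₃ q = 0 → b = 0) := fun ξ => by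
      by_cases h0 : (stalkMapAt f ξ.2).app S.X₃ q = 0
      · exact ⟨0, by rw [h0, map_zero], fun _ => rfl⟩
      · obtain ⟨b, hb⟩ := (AddCommGrpCat.epi_iff_surjective _).1 (hx ξ.1).epi_g ((stalkMapAt f ξ.2).app S.X₃ q)
        exact ⟨b, hb, fun h => (h0 h).elim⟩
    choose b hb hb0 using hl
    obtain ⟨p, hp⟩ := exists_of_finite f η S.X₂ b ((finite_stalkMapAt_ne_zero f S.X₃ q).subset fun ξ hξ e => hξ (hb0 ξ e))
    refine ⟨p, ext_stalkMapAt f _ _ _ fun ξ hξ => ?_⟩
    change (stalkMapAt f hξ).app S.X₃ ((shriekSh f ⋙ EtCoh.stalk η).map S.g p) = _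
    rw [stalkMapAt_naturality, hp ⟨ξ, hξ⟩]
    exact hb ⟨ξ, hξ⟩

theorem shriekSh_exact : PreservesFiniteLimits (shriekSh f) ∧ PreservesFiniteColimits (shriekSh f) :=
  ((Functor.exact_tfae (shriekSh f)).out 0 3).1 fun _ hS => shriekSh_shortExact f hS

/-- `f_!` is exact -/
theorem lowerShriek_exact :
    PreservesFiniteLimits (EtShriek.lowerShriek f) ∧ PreservesFiniteColimits (EtShriek.lowerShriek f) :=
  have := shriekSh_exact f
  have := this.1
  have := (shriekSh_exact f).2
  ⟨preservesFiniteLimits_of_natIso (lowerShriekIso f).symm, preservesFiniteColimits_of_natIso (lowerShriekIso f).symm⟩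

section stalk

/-- the direct sum cofan of a family of abelian groups -/
noncomputable def dirSumCofan {ι : Type u} [DecidableEq ι] (Z : ι → AddCommGrpCat.{u + 1}) : Cofan Z :=
  Cofan.mk (AddCommGrpCat.of (DirectSum ι fun i => Z i)) fun i => AddCommGrpCat.ofHom (DirectSum.of (fun i => Z i) i)

/-- it is a coproduct -/
noncomputable def dirSumCofanIsColimit {ι : Type u} [DecidableEq ι] (Z : ι → AddCommGrpCat.{u + 1}) :
    IsColimit (dirSumCofan Z) :=
  Cofan.IsColimit.mk _ (fun s => AddCommGrpCat.ofHom (DirectSum.toAddMonoid fun i => (s.inj i).hom))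
    (fun s i => by
      ext x
      exact DirectSum.toAddMonoid_of (fun i => (s.inj i).hom) i x)
    (fun s m hm => by
      refine AddCommGrpCat.hom_ext (DirectSum.addHom_ext fun i x => ?_)
      exact (ConcreteCategory.congr_hom (hm i) x).trans (DirectSum.toAddMonoid_of (fun i => (s.inj i).hom) i x).symm)

variable {Ω : Type u} [Field Ω] [IsAlgClosed Ω] (η : Spec (CommRingCat.of Ω) ⟶ Y)

/-- `(f_! F)_η` is the sum of the stalks over `η` -/
theorem nonempty_stalk_iso (F : EtCoh.Ab X) :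
    Nonempty ((EtCoh.stalk η).obj ((shriekSh f).obj F) ≅
      ∐ fun ξ : {ξ : Spec (CommRingCat.of Ω) ⟶ X // ξ ≫ f = η} => (EtCoh.stalk ξ.1).obj F) := by
  classical
  let Z := fun ξ : {ξ : Spec (CommRingCat.of Ω) ⟶ X // ξ ≫ f = η} => (EtCoh.stalk ξ.1).obj F
  let T := (EtCoh.stalk η).obj ((shriekSh f).obj F)
  choose q hq hq' using fun (ξ : {ξ : Spec (CommRingCat.of Ω) ⟶ X // ξ ≫ f = η}) (a : Z ξ) => exists_single f F ξ.2 a
  let inc : ∀ ξ, Z ξ →+ T := fun ξ => AddMonoidHom.mk' (q ξ) fun a b => by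
    refine ext_stalkMapAt f F _ _ fun ξ' hξ' => ?_
    rw [map_add]
    by_cases e : ξ' = ξ.1
    · subst e
      rw [hq, hq, hq]
    · rw [hq' ξ _ ξ' hξ' e, hq' ξ _ ξ' hξ' e, hq' ξ _ ξ' hξ' e, add_zero]
  let Ψ : DirectSum _ (fun ξ => Z ξ) →+ T := DirectSum.toAddMonoid inc
  have hΨ : ∀ x (ξ : {ξ : Spec (CommRingCat.of Ω) ⟶ X // ξ ≫ f = η}), (stalkMapAt f ξ.2).app F (Ψ x) = x ξ := by
    intro x ξ
    induction x using DirectSum.induction_on with
    | zero => rw [map_zero, map_zero]; rfl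
    | of i a =>
      rw [show Ψ (DirectSum.of _ i a) = inc i a from DirectSum.toAddMonoid_of inc i a]
      by_cases e : ξ = i
      · subst e
        exact (hq ξ a).trans (DirectSum.of_eq_same (β := fun ξ => Z ξ) ξ a).symm
      · exact (hq' i a ξ.1 ξ.2 fun h => e (Subtype.ext h)).trans (DirectSum.of_eq_of_ne (β := fun ξ => Z ξ) i ξ a e).symm
    | add x y hx hy => rw [map_add, map_add, hx, hy]; rfl
  have hbij : Function.Bijective Ψ := by
    refine ⟨fun x y e => DirectSum.ext (fun ξ => ?_), fun p => ?_⟩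
    · rw [← hΨ x ξ, ← hΨ y ξ, e]
    · refine ⟨∑ ξ ∈ (finite_stalkMapAt_ne_zero f F p).toFinset, DirectSum.of (fun ξ => Z ξ) ξ ((stalkMapAt f ξ.2).app F p),
        ext_stalkMapAt f F _ _ fun ξ hξ => ?_⟩
      rw [hΨ _ ⟨ξ, hξ⟩]
      by_cases h0 : (stalkMapAt f hξ).app F p = 0
      · rw [h0, DFinsupp.finset_sum_apply]
        refine Finset.sum_eq_zero fun i _ => ?_
        by_cases e : (⟨ξ, hξ⟩ : {ξ : Spec (CommRingCat.of Ω) ⟶ X // ξ ≫ f = η}) = i
        · subst e
          exact (DirectSum.of_eq_same _ _).trans h0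
        · exact DirectSum.of_eq_of_ne i _ _ e
      · rw [DFinsupp.finset_sum_apply, Finset.sum_eq_single (⟨ξ, hξ⟩ : {ξ : Spec (CommRingCat.of Ω) ⟶ X // ξ ≫ f = η})
          (fun i _ e => DirectSum.of_eq_of_ne i _ _ e.symm)
          (fun h => (h ((finite_stalkMapAt_ne_zero f F p).mem_toFinset.2 h0)).elim)]
        exact DirectSum.of_eq_same _ _
  let φ : (dirSumCofan Z).pt ⟶ T := AddCommGrpCat.ofHom Ψ
  have : IsIso φ := (ConcreteCategory.isIso_iff_bijective φ).2 hbij
  exact ⟨(asIso φ).symm ≪≫ (dirSumCofanIsColimit Z).coconePointUniqueUpToIso (coproductIsCoproduct Z)⟩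

end stalk

end Groth.Agent.EtShriekLib
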