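import Groth.Agent.EtShriekLib.Comp
import Groth.Agent.EtShriekLib.ExtZeroIso

/-! compactifications -/

universe u

open CategoryTheory CategoryTheory.Limits AlgebraicGeometry Opposite

namespace Groth.Agent.EtShriekLib

set_option backward.isDefEq.respectTransparency.types false

theorem nonempty_compactification {X Xb Y : Scheme.{u}} (j : X ⟶ Xb) [IsOpenImmersion j]
    (fb : Xb ⟶ Y) [IsProper fb] [EtShriek.JCont j] :
    Nonempty (EtShriek.lowerShriek (j ≫ fb) ≅ EtShriek.extZero j ⋙ EtCoh.push fb) := by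
  obtain ⟨e⟩ := nonempty_lowerShriek_comp j fb
  obtain ⟨e'⟩ := nonempty_extZero_iso j
  exact ⟨e ≪≫ Functor.isoWhiskerRight e'.symm _ ≪≫ Functor.isoWhiskerLeft _ (lowerShriekProperIso fb)⟩

/-- `X ≅ k ×_k X` in the etale site -/
noncomputable def topIso {X S : Scheme.{u}} (p : X ⟶ S) : EtCoh.top X ≅ (EtCoh.bc p).obj (EtCoh.top S) :=
  MorphismProperty.Over.isoMk (asIso (pullback.snd (𝟙 S) p)).symm
    (show (asIso (pullback.snd (𝟙 S) p)).inv ≫ pullback.snd (𝟙 S) p = 𝟙 X from (asIso _).inv_hom_id)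

theorem topIso_hom_prV {X S : Scheme.{u}} (p : X ⟶ S) :
    (topIso p).hom.left ≫ EtShriek.prV p (EtCoh.top S) = p := by
  show (asIso (pullback.snd (𝟙 S) p)).inv ≫ pullback.fst (𝟙 S) p = p
  rw [Iso.inv_comp_eq]
  exact (Category.comp_id _).symm.trans pullback.condition

/-- global sections with compact support are the sections of `p_!` over the base -/
noncomputable def H0cEquiv {k : Type u} [Field k] {X : Scheme.{u}} (p : X ⟶ Spec (CommRingCat.of k))
    [LocallyOfFiniteType p] (F : EtCoh.Ab X) :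
    EtShriek.shriekSubgroup p F (EtCoh.top (Spec (CommRingCat.of k))) ≃+ EtShriek.H0c p F := by
  refine ((F.obj.mapIso (topIso p).op).addCommGroupIsoToAddEquiv.addSubgroupMap _).trans (AddEquiv.addSubgroupCongr ?_)
  have : IsIso (𝟙 (Spec (CommRingCat.of k))) := IsIso.id _
  have : IsIso (𝟙 (EtCoh.top (Spec (CommRingCat.of k))).left) := IsIso.id _
  have hsq : IsPullback (topIso p).hom.left p (EtShriek.prV p (EtCoh.top _)) (𝟙 _) :=
    @IsPullback.of_horiz_isIso _ _ _ _ _ _ _ _ _ _ inferInstance (IsIso.id _) ⟨(topIso_hom_prV p).trans (Category.comp_id p).symm⟩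
  have hsq' : IsPullback (topIso p).inv.left (EtShriek.prV p (EtCoh.top _)) p (𝟙 _) := by
    refine @IsPullback.of_horiz_isIso _ _ _ _ _ _ _ _ _ _ inferInstance (IsIso.id _) ⟨?_⟩
    refine Eq.trans ?_ (Category.comp_id _).symm
    refine (congrArg ((topIso p).inv.left ≫ ·) (topIso_hom_prV p).symm).trans ?_
    refine (Category.assoc _ _ _).symm.trans ?_
    exact (congrArg (· ≫ _) (congrArg (fun q => q.left) (topIso p).inv_hom_id)).trans (Category.id_comp _)
  apply le_antisymm
  · rintro _ ⟨s, hs, rfl⟩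
    refine AddSubgroup.subset_closure (hasProperSupport_iff.2 ?_)
    show ClSub.IsProperOver p (EtShriek.sectSupp F _ (F.obj.map (topIso p).hom.op s))
    rw [sectSupp_map]
    exact QCoh.IsProperOver.baseChange hsq ((mem_shriekSubgroup_iff p).1 hs)
  · refine AddSubgroup.closure_le _ |>.2 fun s hs => ⟨F.obj.map (topIso p).inv.op s, ?_, ?_⟩
    · refine (mem_shriekSubgroup_iff p).2 ?_
      rw [sectSupp_map]
      exact @QCoh.IsProperOver.baseChange _ _ _ ‹LocallyOfFiniteType p› _ _ _ _ _ hsq' _ (hasProperSupport_iff.1 hs)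
    · show F.obj.map (topIso p).hom.op (F.obj.map (topIso p).inv.op s) = s
      rw [map_map_apply, Iso.hom_inv_id, op_id, CategoryTheory.Functor.map_id]
      rfl

theorem nonempty_H0c_compactification {k : Type u} [Field k] {X Xb : Scheme.{u}} (j : X ⟶ Xb)
    [IsOpenImmersion j] (pb : Xb ⟶ Spec (CommRingCat.of k)) [IsProper pb] [EtShriek.JCont j] (F : EtCoh.Ab X) :
    Nonempty ((EtShriek.H0c (j ≫ pb) F) ≃+ EtCoh.sect ((EtShriek.extZero j).obj F) (EtCoh.top Xb)) := by
  obtain ⟨e⟩ := nonempty_compactification j pb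
  have : IsIso (𝟙 (Spec (CommRingCat.of k))) := IsIso.id _
  let T := EtCoh.top (Spec (CommRingCat.of k))
  let e1 := ((sheafSections (Spec (CommRingCat.of k)).smallEtaleTopology AddCommGrpCat.{u + 1}).obj (op T)).mapIso
    (((lowerShriekIso (j ≫ pb)).symm ≪≫ e).app F)
  exact ⟨(H0cEquiv (j ≫ pb) F).symm.trans (e1.addCommGroupIsoToAddEquiv.trans
    (((EtShriek.extZero j).obj F).obj.mapIso (topIso pb).op).addCommGroupIsoToAddEquiv)⟩

end Groth.Agent.EtShriekLib
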