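import Groth.Agent.EtShriekLib.Proper
import Groth.Agent.EtFound.FiniteStalk
import Mathlib.AlgebraicGeometry.Morphisms.FlatMono
import Mathlib.AlgebraicGeometry.ZariskisMainTheorem
import Mathlib.AlgebraicGeometry.Morphisms.FormallyUnramified

/-! finite pieces through a geometric point of a separated quasi-finite morphism, etale locally -/

universe u

open CategoryTheory CategoryTheory.Limits AlgebraicGeometry Opposite TopologicalSpace

namespace Groth.Agent.EtShriekLib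

set_option backward.isDefEq.respectTransparency.types false
set_option maxHeartbeats 1000000

theorem locallyQuasiFinite_of_etale {X Y : Scheme.{u}} (f : X ⟶ Y) [Etale f] : LocallyQuasiFinite f := by
  rw [HasRingHomProperty.iff_appLE (P := @LocallyQuasiFinite)]
  intro U V e
  have h1 := HasRingHomProperty.appLE @FormallyUnramified f inferInstance U V e
  have h2 := HasRingHomProperty.appLE @LocallyOfFiniteType f inferInstance U V e
  algebraize [(f.appLE U.1 V.1 e).hom]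
  have : Algebra.QuasiFinite Γ(Y, U) Γ(X, V) := inferInstance
  exact this

variable {Ω : Type u} [Field Ω] [IsAlgClosed Ω]

/-- around one geometric point of a finite scheme, etale locally on the base, a finite clopen piece with a single
geometric point over the base point -/
theorem exists_isolated {J U : Scheme.{u}} (h : J ⟶ U) [IsFinite h] (ζ : Spec (CommRingCat.of Ω) ⟶ J) :
    ∃ (U' : U.Etale) (u' : (Scheme.pointSmallEtale (ζ ≫ h)).fiber.obj U') (J' : Scheme.{u}) (i : J' ⟶ pullback U'.hom h)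
      (l : Spec (CommRingCat.of Ω) ⟶ J'), IsOpenImmersion i ∧ IsFinite (i ≫ pullback.fst U'.hom h) ∧
      l ≫ i ≫ pullback.fst U'.hom h = u'.left ∧ l ≫ i ≫ pullback.snd U'.hom h = ζ ∧
      ∀ l' : Spec (CommRingCat.of Ω) ⟶ J', l' ≫ i ≫ pullback.fst U'.hom h = u'.left → l' = l := by
  classical
  have := EtFound.finite_points h (ζ ≫ h)
  let Pt := {ξ : Spec (CommRingCat.of Ω) ⟶ J // ξ ≫ h = ζ ≫ h}
  let Oth := {ξ : Pt // ξ.1 ≠ ζ}
  have : Finite Pt := inferInstanceAs (Finite {ξ : Spec (CommRingCat.of Ω) ⟶ J // ξ ≫ h = ζ ≫ h})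
  have := Fintype.ofFinite Oth
  choose V v O O' hd hO hO' using fun p : Oth =>
    EtFound.exists_separation h (rfl : ζ ≫ h = ζ ≫ h) p.1.2 (fun e => p.2 e.symm)
  obtain ⟨⟨W, w⟩, hS⟩ := IsCofiltered.inf_objs_exists
    (Finset.univ.image fun p : Oth => ((Scheme.pointSmallEtale (ζ ≫ h)).fiber).elementsMk (V p) (v p))
  have hb : ∀ p, ∃ b : W ⟶ V p, (Scheme.pointSmallEtale (ζ ≫ h)).fiber.map b w = v p := fun p =>
    ⟨_, (hS (Finset.mem_image_of_mem _ (Finset.mem_univ p))).some.2⟩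
  choose b hb using hb
  have hpt : ∀ (ξ : Spec (CommRingCat.of Ω) ⟶ J) (hξ : ξ ≫ h = ζ ≫ h) {V₀ : U.Etale} (c : W ⟶ V₀)
      (v₀ : (Scheme.pointSmallEtale (ζ ≫ h)).fiber.obj V₀),
      (Scheme.pointSmallEtale (ζ ≫ h)).fiber.map c w = v₀ →
      ((EtCoh.bc h).map c).left.base
        (((EtFound.liftPt h hξ w).left : Spec (CommRingCat.of Ω) ⟶ ((EtCoh.bc h).obj W).left).base
          (default : Spec (CommRingCat.of Ω))) =
        ((EtFound.liftPt h hξ v₀).left : Spec (CommRingCat.of Ω) ⟶ ((EtCoh.bc h).obj V₀).left).base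
          (default : Spec (CommRingCat.of Ω)) := fun ξ hξ V₀ c v₀ hc => by
    subst hc
    rw [← EtFound.liftPt_map h hξ c w]
    exact (Scheme.Hom.comp_apply _ _ _).symm
  let Q : ((EtCoh.bc h).obj W).left.Opens :=
    Finset.univ.inf fun p => ((EtCoh.bc h).map (b p)).left ⁻¹ᵁ O p
  let Q' : ((EtCoh.bc h).obj W).left.Opens := ⨆ p, ((EtCoh.bc h).map (b p)).left ⁻¹ᵁ O' p
  have hQd : Disjoint Q Q' := by
    refine disjoint_iff.2 (eq_bot_iff.2 ?_)
    rintro x ⟨hx, hx'⟩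
    obtain ⟨p, hp⟩ := Opens.mem_iSup.1 hx'
    have h1 : ((EtCoh.bc h).map (b p)).left.base x ∈ O p :=
      (Finset.inf_le (f := fun p => ((EtCoh.bc h).map (b p)).left ⁻¹ᵁ O p) (Finset.mem_univ p)) hx
    exact ((disjoint_iff.1 (hd p)).le ⟨h1, hp⟩).elim
  let pt := ((EtFound.liftPt h (rfl : ζ ≫ h = ζ ≫ h) w).left : Spec (CommRingCat.of Ω) ⟶ ((EtCoh.bc h).obj W).left).base
    (default : Spec (CommRingCat.of Ω))
  have hQ : pt ∈ Q := by
    have : ∀ S : Finset Oth, pt ∈ S.inf fun p => ((EtCoh.bc h).map (b p)).left ⁻¹ᵁ O p := by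
      intro S
      induction S using Finset.induction with
      | empty => exact Opens.mem_top _
      | @insert p S _ ih =>
        rw [Finset.inf_insert]
        refine ⟨?_, ih⟩
        show ((EtCoh.bc h).map (b p)).left.base pt ∈ O p
        rw [hpt ζ rfl (b p) (v p) (hb p)]
        exact hO p
    exact this _
  have hQ' : ∀ (ξ : Spec (CommRingCat.of Ω) ⟶ J) (hξ : ξ ≫ h = ζ ≫ h), ξ ≠ ζ →
      ((EtFound.liftPt h hξ w).left : Spec (CommRingCat.of Ω) ⟶ ((EtCoh.bc h).obj W).left).base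
        (default : Spec (CommRingCat.of Ω)) ∈ Q' := fun ξ hξ hne => by
    refine Opens.mem_iSup.2 ⟨⟨⟨ξ, hξ⟩, hne⟩, ?_⟩
    show ((EtCoh.bc h).map (b _)).left.base _ ∈ O' _
    rw [hpt ξ hξ (b _) (v _) (hb _)]
    exact hO' ⟨⟨ξ, hξ⟩, hne⟩
  obtain ⟨W', d, w', hw', hdW⟩ := EtFound.exists_shrink h w (Q ⊔ Q') fun x hx => by
    obtain ⟨ξ, hξ, rfl⟩ := EtFound.exists_liftPt_eq h w x hx
    by_cases hne : ξ = ζ
    · subst hne
      exact Or.inl hQ
    · exact Or.inr (hQ' ξ hξ hne)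
  let R : ((EtCoh.bc h).obj W').left.Opens := ((EtCoh.bc h).map d).left ⁻¹ᵁ Q
  let R' : ((EtCoh.bc h).obj W').left.Opens := ((EtCoh.bc h).map d).left ⁻¹ᵁ Q'
  have hcl : IsClosed (R : Set ((EtCoh.bc h).obj W').left) := by
    have e : (R : Set ((EtCoh.bc h).obj W').left) = (R' : Set _)ᶜ := by
      ext x
      refine ⟨fun hx hx' => ((disjoint_iff.1 hQd).le ⟨hx, hx'⟩).elim, fun hx => ?_⟩
      exact (hdW x).resolve_right hx
    rw [e]
    exact R'.2.isClosed_compl
  let i : R.toScheme ⟶ pullback W'.hom h := R.ι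
  have : IsOpenImmersion i := inferInstanceAs (IsOpenImmersion R.ι)
  have : IsClosedImmersion i := IsClosedImmersion.of_isPreimmersion _ (by
    show IsClosed (Set.range R.ι)
    rw [Scheme.Opens.range_ι]
    exact hcl)
  let t := (EtFound.liftPt h (rfl : ζ ≫ h = ζ ≫ h) w')
  have htR : (t.left : Spec (CommRingCat.of Ω) ⟶ ((EtCoh.bc h).obj W').left).base
      (default : Spec (CommRingCat.of Ω)) ∈ R := by
    show ((EtCoh.bc h).map d).left.base _ ∈ Q
    have e := congr(($(EtFound.liftPt_map h (rfl : ζ ≫ h = ζ ≫ h) d w')).left)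
    refine Set.mem_of_eq_of_mem (s := (Q : Set _)) ((Scheme.Hom.comp_apply _ _ _).symm.trans
      ((congrArg (fun j : Spec (CommRingCat.of Ω) ⟶ ((EtCoh.bc h).obj W).left =>
        j.base (default : Spec (CommRingCat.of Ω))) e).trans ?_)) hQ
    rw [hw']
    rfl
  let tl : Spec (CommRingCat.of Ω) ⟶ pullback W'.hom h := t.left
  let l : Spec (CommRingCat.of Ω) ⟶ R.toScheme := IsOpenImmersion.lift i tl (by
    rintro _ ⟨a, rfl⟩
    rw [Subsingleton.elim a default]
    show _ ∈ Set.range R.ι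
    rw [Scheme.Opens.range_ι]
    exact htR)
  have hl : l ≫ i = tl := IsOpenImmersion.lift_fac _ _ _
  refine ⟨W', w', R.toScheme, i, l, inferInstanceAs (IsOpenImmersion R.ι),
    inferInstance, ?_, ?_, fun l' hl' => ?_⟩
  · rw [reassoc_of% hl]
    exact EtFound.liftPt_fst h rfl w'
  · rw [reassoc_of% hl]
    exact pullback.lift_snd _ _ _
  · have hξ : (l' ≫ i ≫ pullback.snd W'.hom h) ≫ h = ζ ≫ h := by
      rw [Category.assoc, Category.assoc, ← pullback.condition, ← Category.assoc i, ← Category.assoc, hl']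
      exact CategoryTheory.Over.w w'
    have hl'' : l' ≫ i = (EtFound.liftPt h hξ w').left := pullback.hom_ext
      (by rw [Category.assoc, hl']; exact (EtFound.liftPt_fst h hξ w').symm)
      (by rw [Category.assoc]; exact (pullback.lift_snd _ _ _).symm)
    by_cases hne : l' ≫ i ≫ pullback.snd W'.hom h = ζ
    · refine (cancel_mono i).1 (hl''.trans (Eq.trans ?_ hl.symm))
      exact pullback.hom_ext ((EtFound.liftPt_fst h hξ w').trans (EtFound.liftPt_fst h rfl w').symm)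
        ((pullback.lift_snd _ _ _).trans (hne.trans (pullback.lift_snd _ _ _).symm))
    · exfalso
      have hx : (l' ≫ i).base (default : Spec (CommRingCat.of Ω)) ∈ R := by
        refine Set.mem_of_eq_of_mem (s := (R : Set ((EtCoh.bc h).obj W').left)) (Scheme.Hom.comp_apply l' i default) ?_
        exact (Scheme.Opens.range_ι R).le ⟨_, rfl⟩
      rw [hl''] at hx
      let z : ((EtCoh.bc h).obj W').left :=
        ((EtFound.liftPt h hξ w').left : Spec (CommRingCat.of Ω) ⟶ ((EtCoh.bc h).obj W').left).base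
          (default : Spec (CommRingCat.of Ω))
      have e1 : ((EtCoh.bc h).map d).left.base z =
          ((EtFound.liftPt h hξ w).left : Spec (CommRingCat.of Ω) ⟶ ((EtCoh.bc h).obj W).left).base
            (default : Spec (CommRingCat.of Ω)) := by
        have e := congr(($(EtFound.liftPt_map h hξ d w')).left)
        refine (Scheme.Hom.comp_apply _ _ _).symm.trans ((congrArg (fun j : Spec (CommRingCat.of Ω) ⟶ ((EtCoh.bc h).obj W).left =>
          j.base (default : Spec (CommRingCat.of Ω))) e).trans ?_)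
        rw [hw']
        rfl
      have h2 : ((EtCoh.bc h).map d).left.base z ∈ Q' := by
        rw [e1]
        exact hQ' _ hξ hne
      have h1 : ((EtCoh.bc h).map d).left.base z ∈ Q := hx
      exact ((disjoint_iff.1 hQd).le (x := ((EtCoh.bc h).map d).left.base z) ⟨h1, h2⟩).elim

/-- a finite piece, etale over the base change, with a single geometric point over the base point becomes a clopen
subscheme of the base change after shrinking the base -/
theorem exists_shrink_mono {J U X Y : Scheme.{u}} (f : X ⟶ Y) [IsSeparated f] (g : U ⟶ Y) [Etale g]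
    (h : J ⟶ U) [IsFinite h] (b : J ⟶ X) [Etale b] (hc : h ≫ g = b ≫ f)
    (v : Spec (CommRingCat.of Ω) ⟶ U) (l : Spec (CommRingCat.of Ω) ⟶ J)
    (huniq : ∀ l' : Spec (CommRingCat.of Ω) ⟶ J, l' ≫ h = v → l' = l) :
    ∃ G : U.Opens, v.base (default : Spec (CommRingCat.of Ω)) ∈ G ∧
      ∃ e : (h ⁻¹ᵁ G).toScheme ⟶ pullback (G.ι ≫ g) f, IsOpenImmersion e ∧ IsClosedImmersion e ∧
        e ≫ pullback.fst (G.ι ≫ g) f = h ∣_ G ∧ e ≫ pullback.snd (G.ι ≫ g) f = (h ⁻¹ᵁ G).ι ≫ b := by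
  let e₁ : J ⟶ pullback g f := pullback.lift h b hc
  have he₁ : e₁ ≫ pullback.fst g f = h := pullback.lift_fst _ _ _
  have he₁' : e₁ ≫ pullback.snd g f = b := pullback.lift_snd _ _ _
  have : IsFinite (e₁ ≫ pullback.fst g f) := by rw [he₁]; infer_instance
  have : IsFinite e₁ := IsFinite.of_comp e₁ (pullback.fst g f)
  have : Etale (e₁ ≫ pullback.snd g f) := by rw [he₁']; infer_instance
  have : Etale e₁ := Etale.of_comp e₁ (pullback.snd g f)
  let q := pullback.fst e₁ e₁ ≫ h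
  have : IsFinite q := inferInstanceAs (IsFinite (pullback.fst e₁ e₁ ≫ h))
  let Dg := (pullback.diagonal e₁).opensRange
  let G : U.Opens := ⟨(q.base '' (Dg : Set _)ᶜ)ᶜ, (q.isClosedMap _ Dg.2.isClosed_compl).isOpen_compl⟩
  have hvG : v.base (default : Spec (CommRingCat.of Ω)) ∈ G := by
    rintro ⟨z, hz, hzv⟩
    obtain ⟨c, hcq, hcz⟩ := EtFound.exists_fac_of_integral q v z hzv
    have h1 : c ≫ pullback.fst e₁ e₁ = l := huniq _ (by rw [Category.assoc]; exact hcq)
    have h2 : c ≫ pullback.snd e₁ e₁ = l := huniq _ (by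
      have e : pullback.snd e₁ e₁ ≫ h = q := by
        show _ = pullback.fst e₁ e₁ ≫ h
        rw [← he₁, pullback.condition_assoc]
      rw [Category.assoc]
      exact (congrArg (c ≫ ·) e).trans hcq)
    refine hz ⟨l.base default, ?_⟩
    rw [← hcz, ← Scheme.Hom.comp_apply]
    refine congrArg (fun k : Spec (CommRingCat.of Ω) ⟶ pullback.diagonalObj e₁ => k.base (default : Spec (CommRingCat.of Ω))) ?_
    refine pullback.hom_ext ?_ ?_ <;> simp [h1, h2]
  let a := (h ⁻¹ᵁ G).ι ≫ b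
  have hJι : (h ∣_ G) ≫ G.ι = (h ⁻¹ᵁ G).ι ≫ h := morphismRestrict_ι h G
  let e : (h ⁻¹ᵁ G).toScheme ⟶ pullback (G.ι ≫ g) f := pullback.lift (h ∣_ G) a (by
    rw [reassoc_of% hJι, hc]
    simp [a])
  have hef : e ≫ pullback.fst (G.ι ≫ g) f = h ∣_ G := pullback.lift_fst _ _ _
  have hea : e ≫ pullback.snd (G.ι ≫ g) f = a := pullback.lift_snd _ _ _
  have : Etale (e ≫ pullback.snd (G.ι ≫ g) f) := by rw [hea]; infer_instance
  have : Etale e := Etale.of_comp e (pullback.snd (G.ι ≫ g) f)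
  have : IsFinite (e ≫ pullback.fst (G.ι ≫ g) f) := by
    rw [hef]
    exact IsZariskiLocalAtTarget.restrict (P := @IsFinite) inferInstance G
  have : IsFinite e := IsFinite.of_comp e (pullback.fst (G.ι ≫ g) f)
  have : Mono e := ⟨fun {T} c₁ c₂ hcc => by
    have e1 : c₁ ≫ (h ∣_ G) = c₂ ≫ (h ∣_ G) := by rw [← hef, reassoc_of% hcc]
    have e2 : c₁ ≫ a = c₂ ≫ a := by rw [← hea, reassoc_of% hcc]
    have e3 : (c₁ ≫ (h ⁻¹ᵁ G).ι) ≫ e₁ = (c₂ ≫ (h ⁻¹ᵁ G).ι) ≫ e₁ := by
      refine pullback.hom_ext ?_ ?_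
      · simp only [Category.assoc, he₁]
        rw [← hJι, reassoc_of% e1]
      · simpa only [Category.assoc, he₁', a] using e2
    let p : T ⟶ pullback.diagonalObj e₁ := pullback.lift _ _ e3
    have hp : Set.range p.base ⊆ Set.range (pullback.diagonal e₁).base := by
      rintro _ ⟨t, rfl⟩
      by_contra hz
      have h3 : q.base (p.base t) ∈ G := by
        rw [← Scheme.Hom.comp_apply]
        have e4 : p ≫ q = (c₁ ≫ (h ∣_ G)) ≫ G.ι := by
          show p ≫ pullback.fst e₁ e₁ ≫ h = _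
          rw [pullback.lift_fst_assoc, Category.assoc, Category.assoc, hJι]
        rw [e4, Scheme.Hom.comp_apply]
        exact ((c₁ ≫ (h ∣_ G)).base t).2
      exact h3 ⟨p.base t, hz, rfl⟩
    have e5 := IsOpenImmersion.lift_fac (pullback.diagonal e₁) p hp
    have e6 : c₁ ≫ (h ⁻¹ᵁ G).ι = c₂ ≫ (h ⁻¹ᵁ G).ι := by
      have h1 := congrArg (· ≫ pullback.fst e₁ e₁) e5
      have h2 := congrArg (· ≫ pullback.snd e₁ e₁) e5
      simp only [Category.assoc, pullback.diagonal_fst, pullback.diagonal_snd, Category.comp_id, p,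
        pullback.lift_fst, pullback.lift_snd] at h1 h2
      exact h1.symm.trans h2
    exact (cancel_mono (h ⁻¹ᵁ G).ι).1 e6⟩
  have : IsOpenImmersion e := IsOpenImmersion.of_flat_of_mono e
  exact ⟨G, hvG, e, this, (IsClosedImmersion.iff_isProper_and_mono e).2 ⟨inferInstance, inferInstance⟩, hef, hea⟩

variable {X Y : Scheme.{u}} (f : X ⟶ Y) [IsSeparated f] [LocallyOfFiniteType f] [LocallyQuasiFinite f]
  {η : Spec (CommRingCat.of Ω) ⟶ Y}

/-- an etale neighbourhood of a geometric point of `X` contains, etale locally on `Y`, a finite piece which is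
clopen in the base change of `X` and has a single geometric point over the base point -/
theorem exists_piece {ξ : Spec (CommRingCat.of Ω) ⟶ X} (hξ : ξ ≫ f = η) (W : X.Etale) [IsSeparated W.hom]
    (w : (Scheme.pointSmallEtale ξ).fiber.obj W) :
    ∃ (V : Y.Etale) (v : (Scheme.pointSmallEtale η).fiber.obj V) (J : Scheme.{u})
      (e : J ⟶ ((EtCoh.bc f).obj V).left) (a : J ⟶ W.left) (l : Spec (CommRingCat.of Ω) ⟶ J),
      IsOpenImmersion e ∧ IsClosedImmersion e ∧ IsFinite (e ≫ EtShriek.prV f V) ∧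
      a ≫ W.hom = e ≫ pullback.snd V.hom f ∧ l ≫ a = w.left ∧
      l ≫ e = (EtFound.liftPt f hξ v).left ∧
      ∀ l' : Spec (CommRingCat.of Ω) ⟶ J, l' ≫ e ≫ EtShriek.prV f V = v.left → l' = l := by
  have : Etale W.hom := W.prop
  have : LocallyQuasiFinite W.hom := locallyQuasiFinite_of_etale _
  let wl : Spec (CommRingCat.of Ω) ⟶ W.left := w.left
  have hwl : wl ≫ W.hom = ξ := CategoryTheory.Over.w w
  let x := wl.base (default : Spec (CommRingCat.of Ω))
  obtain ⟨U, g, hg, -, V₀, W₀, v₀, -, hfin, hv₀⟩ :=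
    exists_etale_isCompl_of_quasiFiniteAt (W.hom ≫ f) (x := x) rfl (Scheme.Hom.quasiFiniteAt _ _)
  let h : V₀.toScheme ⟶ U := V₀.ι ≫ pullback.snd (W.hom ≫ f) g
  have : IsFinite h := hfin
  let a₀ : V₀.toScheme ⟶ W.left := V₀.ι ≫ pullback.fst (W.hom ≫ f) g
  have : Etale a₀ := inferInstanceAs (Etale (V₀.ι ≫ pullback.fst (W.hom ≫ f) g))
  obtain ⟨l₀, hl₀, -⟩ := Scheme.exists_fac_of_etale_of_isSepClosed a₀ wl v₀ (by
    show (V₀.ι ≫ pullback.fst (W.hom ≫ f) g).base v₀ = x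
    rw [Scheme.Hom.comp_apply]
    exact hv₀)
  obtain ⟨U', u', J₁, i, l₁, hi, hfin₁, hl₁, hl₁', huniq⟩ := exists_isolated h l₀
  have := hfin₁
  have : Etale U'.hom := U'.prop
  let V₁ : Y.Etale := Scheme.Etale.mk (U'.hom ≫ g)
  let h₁ : J₁ ⟶ U'.left := i ≫ pullback.fst U'.hom h
  let a₁ : J₁ ⟶ W.left := i ≫ pullback.snd U'.hom h ≫ a₀
  have : Etale a₁ := inferInstanceAs (Etale (i ≫ pullback.snd U'.hom h ≫ a₀))
  have hc : h₁ ≫ U'.hom ≫ g = (a₁ ≫ W.hom) ≫ f := by
    show (i ≫ pullback.fst U'.hom h) ≫ U'.hom ≫ g = ((i ≫ pullback.snd U'.hom h ≫ a₀) ≫ W.hom) ≫ f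
    simp only [Category.assoc, a₀]
    rw [reassoc_of% (pullback.condition (f := U'.hom) (g := h))]
    simp only [h, Category.assoc, ← pullback.condition]
  let v₁ : Spec (CommRingCat.of Ω) ⟶ U'.left := u'.left
  have hl₁a : l₁ ≫ a₁ = wl := by
    show l₁ ≫ i ≫ pullback.snd U'.hom h ≫ a₀ = wl
    rw [reassoc_of% hl₁', hl₀]
  have hl₁h : l₁ ≫ h₁ = v₁ := hl₁
  have hv₁ : v₁ ≫ U'.hom ≫ g = η := by
    rw [← hl₁h, Category.assoc, hc, ← Category.assoc, ← Category.assoc, hl₁a, hwl, hξ]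
  have : IsFinite h₁ := hfin₁
  obtain ⟨G, hvG, e, he1, he2, hef, hea⟩ :=
    exists_shrink_mono f (U'.hom ≫ g) h₁ (a₁ ≫ W.hom) hc v₁ l₁ huniq
  let V : Y.Etale := EtFound.restrictEtale V₁ G
  obtain ⟨v, hv, -⟩ := EtFound.exists_lift_point (EtFound.restrictEtaleHom V₁ G)
    (CategoryTheory.Over.homMk v₁ hv₁ : (Scheme.pointSmallEtale η).fiber.obj V₁) ⟨_, hvG⟩ rfl
  let vl : Spec (CommRingCat.of Ω) ⟶ G.toScheme := v.left
  have hvl : vl ≫ G.ι = v₁ := congr(($hv).left)
  let l : Spec (CommRingCat.of Ω) ⟶ (h₁ ⁻¹ᵁ G).toScheme := IsOpenImmersion.lift (h₁ ⁻¹ᵁ G).ι l₁ (by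
    rintro _ ⟨s, rfl⟩
    rw [Subsingleton.elim s default, Scheme.Opens.range_ι]
    show h₁.base (l₁.base _) ∈ G
    rw [← Scheme.Hom.comp_apply, hl₁h]
    exact hvG)
  have hl : l ≫ (h₁ ⁻¹ᵁ G).ι = l₁ := IsOpenImmersion.lift_fac _ _ _
  let a : (h₁ ⁻¹ᵁ G).toScheme ⟶ W.left := (h₁ ⁻¹ᵁ G).ι ≫ a₁
  have hla : l ≫ a = wl := by
    show l ≫ (h₁ ⁻¹ᵁ G).ι ≫ a₁ = wl
    rw [reassoc_of% hl, hl₁a]
  have hlJ : l ≫ (h₁ ∣_ G) = vl :=
    (cancel_mono G.ι).1 (by rw [Category.assoc, morphismRestrict_ι, reassoc_of% hl, hl₁h, hvl])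
  have hfJ : IsFinite (e ≫ pullback.fst (G.ι ≫ U'.hom ≫ g) f) := by
    rw [hef]
    exact IsZariskiLocalAtTarget.restrict (P := @IsFinite) hfin₁ G
  refine ⟨V, v, _, e, a, l, he1, he2, hfJ, (Category.assoc _ _ _).trans hea.symm, hla,
    pullback.hom_ext ?_ ?_, fun l' hl' => ?_⟩
  · exact (Category.assoc _ _ _).trans ((congrArg (l ≫ ·) hef).trans (hlJ.trans (EtFound.liftPt_fst f hξ v).symm))
  · refine (Category.assoc _ _ _).trans ((congrArg (l ≫ ·) hea).trans ?_)
    refine Eq.trans ?_ (pullback.lift_snd _ _ _).symm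
    rw [← Category.assoc (h₁ ⁻¹ᵁ G).ι, ← Category.assoc, hla, hwl]
  · refine (cancel_mono (h₁ ⁻¹ᵁ G).ι).1 ((huniq _ ?_).trans hl.symm)
    show (l' ≫ (h₁ ⁻¹ᵁ G).ι) ≫ h₁ = v₁
    rw [Category.assoc, ← morphismRestrict_ι, ← hvl, ← hef, ← Category.assoc]
    exact congrArg (· ≫ G.ι) hl'

end Groth.Agent.EtShriekLib
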