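import Groth.Agent.EtShriekLib.Coprod
import Groth.Agent.EtShriekLib.Exact
import Mathlib.CategoryTheory.Adjunction.AdjointFunctorTheorems
import Mathlib.CategoryTheory.Abelian.GrothendieckCategory.Basic
import Mathlib.CategoryTheory.Abelian.GrothendieckAxioms.Sheaf

/-! `f_!` of a separated quasi-finite morphism is a left adjoint -/

universe u

open CategoryTheory CategoryTheory.Limits AlgebraicGeometry Opposite

namespace Groth.Agent.EtShriekLib

variable {X Y : Scheme.{u}} (f : X ⟶ Y) [IsSeparated f] [LocallyOfFiniteType f] [LocallyQuasiFinite f]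

theorem lowerShriek_isLeftAdjoint : (EtShriek.lowerShriek f).IsLeftAdjoint := by
  have := (lowerShriek_exact f).2
  have : ∀ ι : Type (u + 1), PreservesColimitsOfShape (Discrete ι) (EtShriek.lowerShriek f) := fun ι =>
    preservesCoproducts f ι
  have : PreservesColimitsOfSize.{u + 1, u + 1} (EtShriek.lowerShriek f) :=
    preservesColimits_of_preservesCoequalizers_and_coproducts _
  have hG : IsGrothendieckAbelian.{u + 1} (EtCoh.Ab X) := inferInstance
  obtain ⟨G, hG'⟩ := HasSeparator.hasSeparator (C := EtCoh.Ab X)
  exact isLeftAdjoint_of_preservesColimits_of_isSeparating (P := ObjectProperty.singleton G) hG' _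

end Groth.Agent.EtShriekLib
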