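import Groth.Agent.EtShriekLib.Exact
import Groth.Agent.EtTensLib.Stalk
import Groth.Agent.EtFound.PullGerm

/-! projection formula for direct images with proper support -/

universe u

open CategoryTheory CategoryTheory.Limits AlgebraicGeometry Opposite TensorProduct

namespace Groth.Agent.EtShriekLib

set_option backward.isDefEq.respectTransparency.types false
set_option maxHeartbeats 800000

variable {X Y : Scheme.{u}} (f : X ⟶ Y) (F : EtCoh.Ab X) (G : EtCoh.Ab Y)

/-- `F ⊗ f^{-1} G` -/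
noncomputable abbrev tensPull : EtCoh.Ab X := (EtTens.tensorBi.obj F).obj ((EtCoh.pull f).obj G)

/-- `f_*F ⊗ G ⟶ f_*(F ⊗ f^{-1}G)` on presheaves -/
noncomputable def pushTens :
    EtTens.tensorObj ((EtCoh.push f).obj F).obj G.obj ⟶ ((EtCoh.push f).obj (tensPull f F G)).obj :=
  EtTens.tensorHom (𝟙 _) ((EtCoh.pullPushAdj f).unit.app G).hom ≫
    Functor.whiskerLeft (EtCoh.bc f).op (toSheafify X.smallEtaleTopology (EtTens.tensorObj F.obj ((EtCoh.pull f).obj G).obj))

theorem pushTens_tmul (V : Y.Etale) (s : EtCoh.sect F ((EtCoh.bc f).obj V)) (g : G.obj.obj (op V)) :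
    (pushTens f F G).app (op V) (s ⊗ₜ[ℤ] g) =
      (toSheafify X.smallEtaleTopology (EtTens.tensorObj F.obj ((EtCoh.pull f).obj G).obj)).app (op ((EtCoh.bc f).obj V))
        (s ⊗ₜ[ℤ] ((EtCoh.pullPushAdj f).unit.app G).hom.app (op V) g) := rfl

variable [LocallyOfFiniteType f]

theorem pushTens_mem (V : Y.Etale) (z : EtShriek.shriekSubgroup f F V ⊗[ℤ] G.obj.obj (op V)) :
    (pushTens f F G).app (op V)
      (TensorProduct.map (EtShriek.shriekSubgroup f F V).subtype.toIntLinearMap LinearMap.id z) ∈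
      EtShriek.shriekSubgroup f (tensPull f F G) V := by
  induction z using TensorProduct.induction_on with
  | zero =>
    rw [map_zero]
    exact (congrArg (· ∈ EtShriek.shriekSubgroup f (tensPull f F G) V) (map_zero _)).mpr (zero_mem _)
  | tmul s g =>
    refine (mem_shriekSubgroup_iff f).2 ?_
    refine QCoh.IsProperOver.subset ((mem_shriekSubgroup_iff f).1 s.2) (isClosed_sectSupp _ _) fun x hx => ?_
    by_contra hx'
    obtain ⟨W, h, hw, h0⟩ := not_mem_sectSupp_iff.1 hx'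
    refine hx W h hw ?_
    change (tensPull f F G).obj.map h.op
      ((toSheafify X.smallEtaleTopology (EtTens.tensorObj F.obj ((EtCoh.pull f).obj G).obj)).app (op ((EtCoh.bc f).obj V))
        (s.1 ⊗ₜ[ℤ] ((EtCoh.pullPushAdj f).unit.app G).hom.app (op V) g)) = 0
    refine (NatTrans.naturality_apply (toSheafify X.smallEtaleTopology _) h.op _).symm.trans ?_
    have e : (EtTens.tensorObj F.obj ((EtCoh.pull f).obj G).obj).map h.op
        (s.1 ⊗ₜ[ℤ] ((EtCoh.pullPushAdj f).unit.app G).hom.app (op V) g) = 0 := by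
      rw [EtTens.tensorObj_map_tmul]
      exact (congrArg (· ⊗ₜ[ℤ] _) h0).trans (TensorProduct.zero_tmul _ _)
    exact (congrArg _ e).trans (map_zero _)
  | add a b ha hb =>
    rw [map_add]
    exact (congrArg (· ∈ EtShriek.shriekSubgroup f (tensPull f F G) V) (map_add _ _ _)).mpr (add_mem ha hb)

/-- `f_!F ⊗ G ⟶ f_!(F ⊗ f^{-1}G)` on presheaves -/
noncomputable def projPre :
    EtTens.tensorObj ((shriekSh f).obj F).obj G.obj ⟶ ((shriekSh f).obj (tensPull f F G)).obj where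
  app V := AddCommGrpCat.ofHom
    (((pushTens f F G).app V).hom.comp
      ((TensorProduct.map (EtShriek.shriekSubgroup f F V.unop).subtype.toIntLinearMap LinearMap.id).toAddMonoidHom) |>.codRestrict
        (EtShriek.shriekSubgroup f (tensPull f F G) V.unop) (pushTens_mem f F G V.unop))
  naturality V W i := by
    refine EtTens.hom_ext_tmul fun s g => Subtype.ext ?_
    exact NatTrans.naturality_apply (pushTens f F G) i (s.1 ⊗ₜ[ℤ] g)

/-- `f_!F ⊗ G ⟶ f_!(F ⊗ f^{-1}G)` -/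
noncomputable def projMap : (EtTens.tensorBi.obj ((shriekSh f).obj F)).obj G ⟶ (shriekSh f).obj (tensPull f F G) :=
  ⟨sheafifyLift Y.smallEtaleTopology (projPre f F G) ((shriekSh f).obj (tensPull f F G)).property⟩

theorem projMap_toSheafify :
    toSheafify Y.smallEtaleTopology (EtTens.tensorObj ((shriekSh f).obj F).obj G.obj) ≫ (projMap f F G).hom =
      projPre f F G :=
  toSheafify_sheafifyLift _ _ _

variable {Ω : Type u} [Field Ω] [IsAlgClosed Ω] {η : Spec (CommRingCat.of Ω) ⟶ Y}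

omit [LocallyOfFiniteType f] in
/-- `G_η ⟶ (f^{-1} G)_ξ` -/
noncomputable def unitStalkAt {ξ : Spec (CommRingCat.of Ω) ⟶ X} (hξ : ξ ≫ f = η) :
    (EtCoh.stalk η).obj G ⟶ (EtCoh.stalk ξ).obj ((EtCoh.pull f).obj G) :=
  (EtCoh.stalk η).map ((EtCoh.pullPushAdj f).unit.app G) ≫ (EtFound.pushStalkAt f hξ).app ((EtCoh.pull f).obj G)

omit [LocallyOfFiniteType f] in
theorem unitStalkAt_germ {ξ : Spec (CommRingCat.of Ω) ⟶ X} (hξ : ξ ≫ f = η) {V : Y.Etale}
    (v : (Scheme.pointSmallEtale η).fiber.obj V) (g : G.obj.obj (op V)) :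
    unitStalkAt f G hξ ((Scheme.pointSmallEtale η).toPresheafFiber V v G.obj g) =
      (Scheme.pointSmallEtale ξ).toPresheafFiber ((EtCoh.bc f).obj V) (EtFound.liftPt f hξ v) ((EtCoh.pull f).obj G).obj
        (((EtCoh.pullPushAdj f).unit.app G).hom.app (op V) g) :=
  (congrArg ((EtFound.pushStalkAt f hξ).app ((EtCoh.pull f).obj G))
    ((Scheme.pointSmallEtale η).toPresheafFiber_naturality_apply ((EtCoh.pullPushAdj f).unit.app G).hom V v g)).trans
    (EtFound.pushStalkAt_germ_apply f hξ ((EtCoh.pull f).obj G) v _)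

omit [LocallyOfFiniteType f] in
theorem unitStalkAt_bijective {ξ : Spec (CommRingCat.of Ω) ⟶ X} (hξ : ξ ≫ f = η) :
    Function.Bijective (unitStalkAt f G hξ) := by
  subst hξ
  have e : unitStalkAt f G (ξ := ξ) rfl = (EtFound.sheafFiberPullIso f ξ).inv.app G := by
    refine (Scheme.pointSmallEtale (ξ ≫ f)).presheafFiber_hom_ext fun V v => ?_
    refine ConcreteCategory.hom_ext _ _ fun g => ?_
    obtain ⟨t, rfl⟩ := (EtFound.bcFiberEquiv f ξ V).surjective v
    refine (ConcreteCategory.comp_apply _ _ g).trans ((unitStalkAt_germ f G rfl _ g).trans ?_)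
    refine Eq.trans ?_ ((ConcreteCategory.congr_hom (EtFound.sheafFiberPullIso_germ f ξ G V t) g).symm.trans rfl)
    have et : EtFound.liftPt f (ξ := ξ) rfl (EtFound.bcFiberEquiv f ξ V t) = t :=
      (EtFound.bcFiberEquiv f ξ V).injective ((EtFound.bcFiberEquiv f ξ V).apply_symm_apply _)
    rw [et]
    rfl
  rw [e]
  exact (ConcreteCategory.isIso_iff_bijective _).1 inferInstance

/-- the two stalks' comparison is the tensor product of the comparisons -/
theorem stalkMapAt_projMap {ξ : Spec (CommRingCat.of Ω) ⟶ X} (hξ : ξ ≫ f = η)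
    (p : (EtCoh.stalk η).obj ((shriekSh f).obj F)) (g : (EtCoh.stalk η).obj G) :
    (stalkMapAt f hξ).app (tensPull f F G) ((EtCoh.stalk η).map (projMap f F G)
        (EtTensLib.stalkTensor η ((shriekSh f).obj F) G (p ⊗ₜ[ℤ] g))) =
      EtTensLib.stalkTensor ξ F ((EtCoh.pull f).obj G) ((stalkMapAt f hξ).app F p ⊗ₜ[ℤ] unitStalkAt f G hξ g) := by
  obtain ⟨V, v, s, t, rfl, rfl⟩ := EtTensLib.exists_rep η ((shriekSh f).obj F).obj G.obj p g
  have h1 := EtTensLib.stalkTensor_germ η ((shriekSh f).obj F) G V v s t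
  have h2 := (Scheme.pointSmallEtale η).toPresheafFiber_naturality_apply (projMap f F G).hom V v
      ((toSheafify Y.smallEtaleTopology (EtTens.tensorObj ((shriekSh f).obj F).obj G.obj)).app (op V) (s ⊗ₜ[ℤ] t))
  have h3 : (projMap f F G).hom.app (op V)
      ((toSheafify Y.smallEtaleTopology (EtTens.tensorObj ((shriekSh f).obj F).obj G.obj)).app (op V) (s ⊗ₜ[ℤ] t)) =
      (projPre f F G).app (op V) (s ⊗ₜ[ℤ] t) :=
    (ConcreteCategory.comp_apply _ _ _).symm.trans
      (ConcreteCategory.congr_hom (congr_app (projMap_toSheafify f F G) (op V)) _)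
  refine (congrArg (fun z => (stalkMapAt f hξ).app (tensPull f F G) ((EtCoh.stalk η).map (projMap f F G) z)) h1).trans ?_
  refine (congrArg ((stalkMapAt f hξ).app (tensPull f F G)) (h2.trans (congrArg _ h3))).trans ?_
  refine (stalkMapAt_germ f hξ (tensPull f F G) v _).trans ?_
  refine Eq.trans ?_ (congrArg₂ (fun a b => EtTensLib.stalkTensor ξ F ((EtCoh.pull f).obj G) (a ⊗ₜ[ℤ] b))
    (stalkMapAt_germ f hξ F v s).symm (unitStalkAt_germ f G hξ v t).symm)
  exact (EtTensLib.stalkTensor_germ ξ F ((EtCoh.pull f).obj G) _ (EtFound.liftPt f hξ v) s.1 _).symm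

variable [LocallyQuasiFinite f] [IsSeparated f]

theorem bijective_stalk_projMap :
    Function.Bijective ((EtCoh.stalk η).map (projMap f F G)) := by
  classical
  have hb := EtTensLib.stalkTensor_bijective η ((shriekSh f).obj F) G
  choose q hq hq' using fun (ξ : {ξ : Spec (CommRingCat.of Ω) ⟶ X // ξ ≫ f = η}) (a : (EtCoh.stalk ξ.1).obj F) =>
    exists_single f F ξ.2 a
  let inc : ∀ ξ : {ξ : Spec (CommRingCat.of Ω) ⟶ X // ξ ≫ f = η},
      (EtCoh.stalk ξ.1).obj F →+ (EtCoh.stalk η).obj ((shriekSh f).obj F) := fun ξ =>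
    AddMonoidHom.mk' (q ξ) fun a b => by
      refine ext_stalkMapAt f F _ _ fun ξ' hξ' => ?_
      rw [map_add]
      by_cases e : ξ' = ξ.1
      · subst e
        rw [hq, hq, hq]
      · rw [hq' ξ _ ξ' hξ' e, hq' ξ _ ξ' hξ' e, hq' ξ _ ξ' hξ' e, add_zero]
  -- a component family, and its image
  let C : ∀ ξ : {ξ : Spec (CommRingCat.of Ω) ⟶ X // ξ ≫ f = η},
      ((EtCoh.stalk η).obj ((shriekSh f).obj F) ⊗[ℤ] (EtCoh.stalk η).obj G) →ₗ[ℤ]
        ((EtCoh.stalk ξ.1).obj F ⊗[ℤ] (EtCoh.stalk ξ.1).obj ((EtCoh.pull f).obj G)) := fun ξ =>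
    TensorProduct.map ((stalkMapAt f ξ.2).app F).hom.toIntLinearMap (unitStalkAt f G ξ.2).hom.toIntLinearMap
  let I : ∀ ξ : {ξ : Spec (CommRingCat.of Ω) ⟶ X // ξ ≫ f = η},
      ((EtCoh.stalk ξ.1).obj F ⊗[ℤ] (EtCoh.stalk η).obj G) →ₗ[ℤ]
        ((EtCoh.stalk η).obj ((shriekSh f).obj F) ⊗[ℤ] (EtCoh.stalk η).obj G) := fun ξ =>
    TensorProduct.map (inc ξ).toIntLinearMap LinearMap.id
  let U : ∀ ξ : {ξ : Spec (CommRingCat.of Ω) ⟶ X // ξ ≫ f = η},
      ((EtCoh.stalk ξ.1).obj F ⊗[ℤ] (EtCoh.stalk η).obj G) →ₗ[ℤ]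
        ((EtCoh.stalk ξ.1).obj F ⊗[ℤ] (EtCoh.stalk ξ.1).obj ((EtCoh.pull f).obj G)) := fun ξ =>
    TensorProduct.map LinearMap.id (unitStalkAt f G ξ.2).hom.toIntLinearMap
  have hU : ∀ ξ, Function.Bijective (U ξ) := fun ξ =>
    (TensorProduct.congr (LinearEquiv.refl ℤ ((EtCoh.stalk ξ.1).obj F))
      (AddEquiv.ofBijective (unitStalkAt f G ξ.2).hom (unitStalkAt_bijective f G ξ.2)).toIntLinearEquiv).bijective
  have hcomp : ∀ ξ x, (stalkMapAt f ξ.2).app (tensPull f F G) ((EtCoh.stalk η).map (projMap f F G)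
      (EtTensLib.stalkTensor η ((shriekSh f).obj F) G x)) =
      EtTensLib.stalkTensor ξ.1 F ((EtCoh.pull f).obj G) (C ξ x) := fun ξ x => by
    induction x using TensorProduct.induction_on with
    | zero => simp
    | tmul p g => exact stalkMapAt_projMap f F G ξ.2 p g
    | add a b ha hb => simp only [map_add, ha, hb]
  have hCI : ∀ ξ ξ' y, C ξ (I ξ' y) = if h : ξ' = ξ then U ξ (h ▸ y) else 0 := fun ξ ξ' y => by
    induction y using TensorProduct.induction_on with
    | zero => split_ifs with h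
              · subst h; simp
              · simp
    | tmul a g =>
      show (stalkMapAt f ξ.2).app F (q ξ' a) ⊗ₜ[ℤ] unitStalkAt f G ξ.2 g = _
      split_ifs with h
      · subst h
        rw [hq]
        rfl
      · rw [hq' ξ' a ξ.1 ξ.2 fun e => h (Subtype.ext e).symm, TensorProduct.zero_tmul]
    | add a b ha hb =>
      rw [map_add, map_add, ha, hb]
      split_ifs with h
      · subst h; rw [map_add]
      · rw [add_zero]
  have hgen : ∀ x, ∃ (T : Finset {ξ : Spec (CommRingCat.of Ω) ⟶ X // ξ ≫ f = η})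
      (y : ∀ ξ : {ξ : Spec (CommRingCat.of Ω) ⟶ X // ξ ≫ f = η}, (EtCoh.stalk ξ.1).obj F ⊗[ℤ] (EtCoh.stalk η).obj G),
      x = ∑ ξ ∈ T, I ξ (y ξ) := fun x => by
    induction x using TensorProduct.induction_on with
    | zero => exact ⟨∅, fun _ => 0, Finset.sum_empty.symm⟩
    | tmul p g =>
      refine ⟨(finite_stalkMapAt_ne_zero f F p).toFinset, fun ξ => (stalkMapAt f ξ.2).app F p ⊗ₜ[ℤ] g, ?_⟩
      show _ = ∑ ξ ∈ _, q ξ ((stalkMapAt f ξ.2).app F p) ⊗ₜ[ℤ] g
      rw [← TensorProduct.sum_tmul]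
      refine congrArg (· ⊗ₜ[ℤ] g) (ext_stalkMapAt f F _ _ fun ξ hξ => ?_)
      rw [map_sum]
      by_cases hT : (⟨ξ, hξ⟩ : {ξ : Spec (CommRingCat.of Ω) ⟶ X // ξ ≫ f = η}) ∈ (finite_stalkMapAt_ne_zero f F p).toFinset
      · rw [Finset.sum_eq_single_of_mem _ hT fun i _ hi => hq' i _ ξ hξ fun e => hi (Subtype.ext e.symm)]
        exact (hq ⟨ξ, hξ⟩ _).symm
      · rw [Finset.sum_eq_zero fun i hi => hq' i _ ξ hξ fun e => hT (by
          have : (⟨ξ, hξ⟩ : {ξ : Spec (CommRingCat.of Ω) ⟶ X // ξ ≫ f = η}) = i := Subtype.ext e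
          rwa [this])]
        by_contra h'
        exact hT ((finite_stalkMapAt_ne_zero f F p).mem_toFinset.2 h')
    | add a b ha hb =>
      obtain ⟨T, y, rfl⟩ := ha
      obtain ⟨T', y', rfl⟩ := hb
      refine ⟨T ∪ T', fun ξ => (if ξ ∈ T then y ξ else 0) + (if ξ ∈ T' then y' ξ else 0), ?_⟩
      have hs : ∀ (S S' : Finset {ξ : Spec (CommRingCat.of Ω) ⟶ X // ξ ≫ f = η})
          (w : ∀ ξ : {ξ : Spec (CommRingCat.of Ω) ⟶ X // ξ ≫ f = η}, (EtCoh.stalk ξ.1).obj F ⊗[ℤ] (EtCoh.stalk η).obj G),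
          S ⊆ S' → ∑ ξ ∈ S, I ξ (w ξ) = ∑ ξ ∈ S', I ξ (if ξ ∈ S then w ξ else 0) := fun S S' w h => by
        rw [← Finset.sum_subset h fun ξ _ hξ => by rw [if_neg hξ, map_zero]]
        exact Finset.sum_congr rfl fun ξ hξ => by rw [if_pos hξ]
      rw [hs T (T ∪ T') y Finset.subset_union_left, hs T' (T ∪ T') y' Finset.subset_union_right]
      exact Finset.sum_add_distrib.symm.trans (Finset.sum_congr rfl fun ξ _ => (map_add (I ξ) _ _).symm)
  refine ⟨(injective_iff_map_eq_zero _).2 fun z hz => ?_, fun z => ?_⟩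
  · obtain ⟨x, rfl⟩ := hb.2 z
    obtain ⟨T, y, rfl⟩ := hgen x
    refine (congrArg _ (Finset.sum_eq_zero fun ξ hξ => ?_)).trans (map_zero _)
    suffices y ξ = 0 by rw [this, map_zero]
    have h0 := (hcomp ξ _).symm.trans ((congrArg ((stalkMapAt f ξ.2).app (tensPull f F G)) hz).trans (map_zero _))
    rw [← map_zero (EtTensLib.stalkTensor ξ.1 F ((EtCoh.pull f).obj G))] at h0
    have h1 := (EtTensLib.stalkTensor_bijective ξ.1 F ((EtCoh.pull f).obj G)).1 h0
    rw [map_sum, Finset.sum_eq_single_of_mem ξ hξ fun i _ hi => (hCI ξ i _).trans (dif_neg hi), hCI, dif_pos rfl] at h1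
    exact (hU ξ).1 (h1.trans (map_zero _).symm)
  · choose y hy using fun ξ : {ξ : Spec (CommRingCat.of Ω) ⟶ X // ξ ≫ f = η} =>
      ((EtTensLib.stalkTensor_bijective ξ.1 F ((EtCoh.pull f).obj G)).comp (hU ξ)).2
        ((stalkMapAt f ξ.2).app (tensPull f F G) z)
    refine ⟨EtTensLib.stalkTensor η ((shriekSh f).obj F) G
      (∑ ξ ∈ (finite_stalkMapAt_ne_zero f (tensPull f F G) z).toFinset, I ξ (y ξ)), ext_stalkMapAt f _ _ _ fun ξ hξ => ?_⟩
    rw [hcomp ⟨ξ, hξ⟩, map_sum]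
    by_cases hT : (⟨ξ, hξ⟩ : {ξ : Spec (CommRingCat.of Ω) ⟶ X // ξ ≫ f = η}) ∈ (finite_stalkMapAt_ne_zero f (tensPull f F G) z).toFinset
    · rw [Finset.sum_eq_single_of_mem _ hT fun i _ hi => (hCI _ i _).trans (dif_neg hi), hCI, dif_pos rfl]
      exact hy ⟨ξ, hξ⟩
    · rw [Finset.sum_eq_zero fun i hi => (hCI _ i _).trans (dif_neg fun e : i = ⟨ξ, hξ⟩ => hT (e ▸ hi)), map_zero]
      by_contra h'
      exact hT ((finite_stalkMapAt_ne_zero f (tensPull f F G) z).mem_toFinset.2 (Ne.symm h'))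

/-- the projection formula -/
theorem nonempty_projection :
    Nonempty ((EtTens.tensorBi.obj ((EtShriek.lowerShriek f).obj F)).obj G ≅
      (EtShriek.lowerShriek f).obj (tensPull f F G)) := by
  have : IsIso (projMap f F G) := isIso_of_algClosed_stalks _ fun Ω _ _ η => bijective_stalk_projMap f F G
  exact ⟨(EtTens.tensorBi.mapIso ((lowerShriekIso f).app F)).app G ≪≫ asIso (projMap f F G) ≪≫
    ((lowerShriekIso f).app (tensPull f F G)).symm⟩

end Groth.Agent.EtShriekLib
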