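import Groth.Agent.EtShriekLib.Supp
import Groth.Agent.EtFound.Descent
import Mathlib.AlgebraicGeometry.Morphisms.QuasiSeparated

/-! properness of closed subsets is etale local on the base; sections with proper support -/

universe u

open CategoryTheory CategoryTheory.Limits AlgebraicGeometry Opposite MorphismProperty TopologicalSpace

namespace Groth.Agent.EtShriekLib

set_option backward.isDefEq.respectTransparency.types false
set_option backward.isDefEq.respectTransparency false

/-- properness descends along a jointly surjective family of etale morphisms -/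
theorem isProper_of_etale_cover {T V : Scheme.{u}} (h : T ⟶ V)
    (H : ∀ v : V, ∃ (V' : Scheme.{u}) (g : V' ⟶ V), Etale g ∧ v ∈ Set.range g ∧ IsProper (pullback.snd h g)) :
    IsProper h := by
  refine IsZariskiLocalAtTarget.of_forall_exists_morphismRestrict (P := @IsProper) fun v => ?_
  obtain ⟨V', g, hg, ⟨v', hv'⟩, hp⟩ := H v
  obtain ⟨A, hA, hvA, -⟩ := exists_isAffineOpen_mem_and_subset (U := (⊤ : V.Opens)) (x := v) trivial
  obtain ⟨B, hB, hvB, hBA⟩ := exists_isAffineOpen_mem_and_subset (U := g ⁻¹ᵁ A) (x := v')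
    (show g v' ∈ A from by rw [hv']; exact hvA)
  have : IsAffine B.toScheme := hB
  let k : B.toScheme ⟶ V := B.ι ≫ g
  have : Etale k := inferInstanceAs (Etale (B.ι ≫ g))
  let A' : V.Opens := ⟨Set.range k, k.isOpenMap.isOpen_range⟩
  have hA' : A' ≤ A := by
    rintro _ ⟨b, rfl⟩
    exact hBA b.2
  refine ⟨A', ⟨⟨v', hvB⟩, hv'⟩, ?_⟩
  let q : B.toScheme ⟶ A'.toScheme := IsOpenImmersion.lift A'.ι k (by rw [Scheme.Opens.range_ι]; rfl)
  have hq : q ≫ A'.ι = k := IsOpenImmersion.lift_fac _ _ _
  have : Etale (q ≫ A'.ι) := by rw [hq]; infer_instance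
  have : Etale q := Etale.of_comp q A'.ι
  have : Surjective q := ⟨fun a => by
    obtain ⟨b, hb⟩ := a.2
    refine ⟨b, A'.ι.isOpenEmbedding.injective ?_⟩
    rw [← Scheme.Hom.comp_apply, hq]
    exact hb⟩
  have : QuasiSeparatedSpace A'.toScheme :=
    (isQuasiSeparated_iff_quasiSeparatedSpace _ A'.2).1 (hA.isQuasiSeparated.of_subset hA')
  have : QuasiCompact q := inferInstance
  have := EtFound.fpqc_isProper.{u}
  have sq : IsPullback (pullback.fst h k) (pullback.snd h k) h k := IsPullback.of_hasPullback _ _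
  have hk : IsProper (pullback.snd h k) := by
    have e : pullback.snd h k = (pullback.congrHom rfl rfl).hom ≫ pullback.snd h (B.ι ≫ g) := by simp [k]
    have hB' : IsProper (pullback.snd (pullback.snd h g) B.ι) := MorphismProperty.pullback_snd _ _ hp
    have P := (IsPullback.of_hasPullback (pullback.snd h g) B.ι).paste_horiz (IsPullback.of_hasPullback h g)
    rw [← P.isoPullback_inv_snd]
    infer_instance
  have P2 := (isPullback_morphismRestrict h A').flip
  let l : pullback h k ⟶ (h ⁻¹ᵁ A').toScheme :=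
    P2.lift (pullback.fst h k) (pullback.snd h k ≫ q) (by rw [Category.assoc, hq, pullback.condition])
  have P3 : IsPullback (pullback.snd h k) l q (h ∣_ A') := by
    refine (IsPullback.of_right (h₁₂ := (h ⁻¹ᵁ A').ι) (v₁₃ := h) (h₂₂ := A'.ι) ?_ (P2.lift_snd _ _ _) P2).flip
    rw [P2.lift_fst, hq]
    exact sq
  exact of_isPullback_of_descendsAlong (P := @IsProper)
    (Q := (@Surjective ⊓ @Flat ⊓ @QuasiCompact : MorphismProperty Scheme.{u})) P3
    ⟨⟨inferInstance, inferInstance⟩, inferInstance⟩ hk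

/-- being proper over the base is etale local on the base -/
theorem isProperOver_of_etale_cover {P V : Scheme.{u}} {p : P ⟶ V} [LocallyOfFiniteType p] {Z : Set P}
    (hZ : IsClosed Z)
    (H : ∀ v : V, ∃ (V' : Scheme.{u}) (g : V' ⟶ V) (P' : Scheme.{u}) (g' : P' ⟶ P) (p' : P' ⟶ V'),
      Etale g ∧ v ∈ Set.range g ∧ IsPullback g' p' p g ∧ ClSub.IsProperOver p' (⇑g' ⁻¹' Z)) :
    ClSub.IsProperOver p Z := by
  refine ⟨hZ, isProper_of_etale_cover _ fun v => ?_⟩
  obtain ⟨V', g, P', g', p', hg, hv, sq, hP'⟩ := H v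
  refine ⟨V', g, hg, hv, ?_⟩
  let i := (Scheme.IdealSheafData.vanishingIdeal ⟨Z, hZ⟩).subschemeι
  have : LocallyOfFiniteType p' := MorphismProperty.of_isPullback sq inferInstance
  let j := pullback.fst g' i
  have sq' : IsPullback (pullback.snd g' i) (j ≫ p') (i ≫ p) g :=
    IsPullback.paste_vert (IsPullback.of_hasPullback g' i).flip sq
  have hr : Set.range j = ⇑g' ⁻¹' Z := by
    rw [Scheme.Pullback.range_fst, QCoh.range_vanishing]
  have : IsProper (j ≫ p') := (QCoh.isProperOver_iff j).1 (hr ▸ hP')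
  rw [← sq'.isoPullback_inv_snd]
  infer_instance

variable {X Y : Scheme.{u}} (f : X ⟶ Y) (F : EtCoh.Ab X)

instance prV_locallyOfFiniteType [LocallyOfFiniteType f] (V : Y.Etale) :
    LocallyOfFiniteType (EtShriek.prV f V) := by
  delta EtShriek.prV
  exact MorphismProperty.pullback_fst _ _ ‹_›

variable {F}

theorem hasProperSupport_iff {U : X.Etale} {S : Scheme.{u}} {g : U.left ⟶ S} {s : EtCoh.sect F U} :
    EtShriek.HasProperSupport F U s g ↔ ClSub.IsProperOver g (EtShriek.sectSupp F U s) :=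
  ⟨fun ⟨_, h, hZ⟩ => QCoh.IsProperOver.subset hZ (isClosed_sectSupp U s) h, fun h => ⟨_, subset_rfl, h⟩⟩

variable [LocallyOfFiniteType f]

theorem hasProperSupport_map {V V' : Y.Etale} (φ : V' ⟶ V) {s : EtCoh.sect F ((EtCoh.bc f).obj V)}
    (h : EtShriek.HasProperSupport F _ s (EtShriek.prV f V)) :
    EtShriek.HasProperSupport F _ (F.obj.map ((EtCoh.bc f).map φ).op s) (EtShriek.prV f V') := by
  rw [hasProperSupport_iff] at h ⊢
  rw [sectSupp_map]
  exact QCoh.IsProperOver.baseChange (EtCoh.isPullback_bc_map f φ) h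

theorem shriekPred_iff {V : Y.Etale} {s : EtCoh.sect F ((EtCoh.bc f).obj V)} :
    EtShriek.ShriekPred f F V s ↔ EtShriek.HasProperSupport F _ s (EtShriek.prV f V) :=
  ⟨fun h => by simpa using h V (𝟙 V), fun h V' φ => hasProperSupport_map f φ h⟩

/-- the sections with proper support already form a subgroup -/
theorem mem_shriekSubgroup_iff {V : Y.Etale} {s : EtCoh.sect F ((EtCoh.bc f).obj V)} :
    s ∈ EtShriek.shriekSubgroup f F V ↔ ClSub.IsProperOver (EtShriek.prV f V) (EtShriek.sectSupp F _ s) := by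
  rw [← hasProperSupport_iff, ← shriekPred_iff]
  refine ⟨fun h => ?_, fun h => AddSubgroup.subset_closure h⟩
  induction h using AddSubgroup.closure_induction with
  | mem x hx => exact hx
  | zero =>
    rw [shriekPred_iff, hasProperSupport_iff, sectSupp_zero]
    exact QCoh.isProperOver_empty
  | add a b _ _ ha hb =>
    rw [shriekPred_iff, hasProperSupport_iff] at ha hb ⊢
    exact QCoh.IsProperOver.subset (QCoh.IsProperOver.union ha hb) (isClosed_sectSupp _ _) (sectSupp_add _ _ _)
  | neg a _ ha =>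
    rw [shriekPred_iff, hasProperSupport_iff] at ha ⊢
    rwa [sectSupp_neg]

/-- having proper support is local -/
theorem mem_shriekSubgroup_of_local {V : Y.Etale} {s : EtCoh.sect F ((EtCoh.bc f).obj V)}
    (H : ∀ v : V.left, ∃ (V' : Y.Etale) (φ : V' ⟶ V), v ∈ Set.range φ.left ∧
      F.obj.map ((EtCoh.bc f).map φ).op s ∈ EtShriek.shriekSubgroup f F V') :
    s ∈ EtShriek.shriekSubgroup f F V := by
  rw [mem_shriekSubgroup_iff]
  refine isProperOver_of_etale_cover (isClosed_sectSupp _ _) fun v => ?_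
  obtain ⟨V', φ, hv, hs⟩ := H v
  rw [mem_shriekSubgroup_iff, sectSupp_map] at hs
  exact ⟨V'.left, φ.left, _, ((EtCoh.bc f).map φ).left, EtShriek.prV f V', EtFound.etale_left φ, hv,
    EtCoh.isPullback_bc_map f φ, hs⟩

variable (F)

theorem isSheaf_lowerShriekPre : Presheaf.IsSheaf Y.smallEtaleTopology (EtShriek.lowerShriekPre f F) := by
  rw [Presheaf.isSheaf_iff_isSheaf_forget _ _ (forget AddCommGrpCat.{u + 1}), isSheaf_iff_isSheaf_of_type]
  intro V S hS
  have hG := ((isSheaf_iff_isSheaf_of_type _ _).1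
    ((sheafCompose Y.smallEtaleTopology (forget AddCommGrpCat.{u + 1})).obj ((EtCoh.push f).obj F)).property) S hS
  intro x hx
  let y : Presieve.FamilyOfElements
      ((sheafCompose Y.smallEtaleTopology (forget AddCommGrpCat.{u + 1})).obj ((EtCoh.push f).obj F)).obj S.arrows :=
    fun W g hg => (x g hg).1
  have hy : y.Compatible := fun W₁ W₂ Z g₁ g₂ f₁ f₂ h₁ h₂ e => congrArg Subtype.val (hx g₁ g₂ h₁ h₂ e)
  obtain ⟨t, ht, hu⟩ := hG y hy
  refine ⟨⟨t, mem_shriekSubgroup_of_local f fun v => ?_⟩, fun W g hg => Subtype.ext (ht g hg),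
    fun t' ht' => Subtype.ext (hu _ fun W g hg => congrArg Subtype.val (ht' g hg))⟩
  obtain ⟨W, g, w, hg, hw⟩ := (EtFound.mem_topology_iff S).1 hS v
  refine ⟨W, g, ⟨w, hw⟩, ?_⟩
  have e := ht g hg
  exact (congrArg (· ∈ EtShriek.shriekSubgroup f F W) e).mpr (x g hg).2

/-- sections with proper support, as a functor to sheaves -/
noncomputable def shriekSh : EtCoh.Ab X ⥤ EtCoh.Ab Y where
  obj F := ⟨EtShriek.lowerShriekPre f F, isSheaf_lowerShriekPre f F⟩
  map α := ⟨(EtShriek.lowerShriekPreFunctor f).map α⟩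
  map_id F := Sheaf.hom_ext ((EtShriek.lowerShriekPreFunctor f).map_id F)
  map_comp α β := Sheaf.hom_ext ((EtShriek.lowerShriekPreFunctor f).map_comp α β)

/-- `f_!` is the sheaf of sections with proper support -/
noncomputable def lowerShriekIso : EtShriek.lowerShriek f ≅ shriekSh f :=
  Functor.isoWhiskerLeft (shriekSh f) (sheafificationNatIso Y.smallEtaleTopology AddCommGrpCat.{u + 1}).symm ≪≫
    (shriekSh f).rightUnitor

/-- the inclusion into the direct image -/
noncomputable def shriekShι : shriekSh f ⟶ EtCoh.push f where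
  app F := ⟨EtShriek.lowerShriekPreι f F⟩
  naturality F G α := by
    apply Sheaf.hom_ext
    rfl

theorem shriekShι_injective (F : EtCoh.Ab X) (V : Y.Etale) :
    Function.Injective (((shriekShι f).app F).hom.app (op V)) := Subtype.val_injective

end Groth.Agent.EtShriekLib
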