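import Groth.Agent.EtShriekLib.FinitePart
import Groth.Agent.EtFound.FieldExt
import Groth.Agent.EtFound.StalkSet
import Mathlib.AlgebraicGeometry.AlgClosed.Basic
import Mathlib.Algebra.Category.Grp.Abelian

/-! stalks of direct images with proper support along separated quasi-finite morphisms -/

universe u

open CategoryTheory CategoryTheory.Limits AlgebraicGeometry Opposite TopologicalSpace

namespace Groth.Agent.EtShriekLib

set_option backward.isDefEq.respectTransparency.types false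
set_option maxHeartbeats 800000

variable {X Y : Scheme.{u}} (f : X ⟶ Y) [LocallyOfFiniteType f]
  {Ω : Type u} [Field Ω] [IsAlgClosed Ω] {η : Spec (CommRingCat.of Ω) ⟶ Y}

/-- the component at a geometric point of the fibre -/
noncomputable def stalkMapAt {ξ : Spec (CommRingCat.of Ω) ⟶ X} (hξ : ξ ≫ f = η) :
    shriekSh f ⋙ EtCoh.stalk η ⟶ EtCoh.stalk ξ :=
  Functor.whiskerRight (shriekShι f) _ ≫ EtFound.pushStalkAt f hξ

theorem stalkMapAt_germ {ξ : Spec (CommRingCat.of Ω) ⟶ X} (hξ : ξ ≫ f = η) (F : EtCoh.Ab X) {V : Y.Etale}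
    (v : (Scheme.pointSmallEtale η).fiber.obj V) (s : EtCoh.sect ((shriekSh f).obj F) V) :
    (stalkMapAt f hξ).app F ((Scheme.pointSmallEtale η).toPresheafFiber V v ((shriekSh f).obj F).obj s) =
      (Scheme.pointSmallEtale ξ).toPresheafFiber ((EtCoh.bc f).obj V) (EtFound.liftPt f hξ v) F.obj s.1 := by
  refine (congrArg ((EtFound.pushStalkAt f hξ).app F)
    ((Scheme.pointSmallEtale η).toPresheafFiber_naturality_apply ((shriekShι f).app F).hom V v s)).trans ?_
  exact EtFound.pushStalkAt_germ_apply f hξ F v _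

theorem stalkMapAt_naturality {ξ : Spec (CommRingCat.of Ω) ⟶ X} (hξ : ξ ≫ f = η) {F G : EtCoh.Ab X} (a : F ⟶ G)
    (p : (shriekSh f ⋙ EtCoh.stalk η).obj F) :
    (stalkMapAt f hξ).app G ((shriekSh f ⋙ EtCoh.stalk η).map a p) = (EtCoh.stalk ξ).map a ((stalkMapAt f hξ).app F p) :=
  ConcreteCategory.congr_hom ((stalkMapAt f hξ).naturality a) p

variable [LocallyQuasiFinite f]

/-- geometric points of the fibre pass through all its points -/
theorem exists_liftPt_eq {V : Y.Etale} (v : (Scheme.pointSmallEtale η).fiber.obj V) (x : ((EtCoh.bc f).obj V).left)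
    (hx : (EtShriek.prV f V).base x =
      (v.left : Spec (CommRingCat.of Ω) ⟶ V.left).base (default : Spec (CommRingCat.of Ω))) :
    ∃ (ξ : Spec (CommRingCat.of Ω) ⟶ X) (hξ : ξ ≫ f = η),
      ((EtFound.liftPt f hξ v).left : Spec (CommRingCat.of Ω) ⟶ ((EtCoh.bc f).obj V).left).base
        (default : Spec (CommRingCat.of Ω)) = x := by
  let vl : Spec (CommRingCat.of Ω) ⟶ V.left := v.left
  let P := pullback (pullback.fst V.hom f) vl
  let p : P ⟶ Spec (CommRingCat.of Ω) := pullback.snd _ _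
  have : LocallyQuasiFinite (pullback.fst V.hom f) := MorphismProperty.pullback_fst _ _ ‹_›
  have : LocallyQuasiFinite (pullback.snd (pullback.fst V.hom f) vl) := MorphismProperty.pullback_snd _ _ ‹_›
  have : IsLocallyArtinian P := .of_locallyQuasiFinite (pullback.snd (pullback.fst V.hom f) vl)
  have : DiscreteTopology P := inferInstance
  obtain ⟨z, hz, -⟩ := Scheme.Pullback.exists_preimage_pullback (f := pullback.fst V.hom f) (g := vl) x default hx
  let c := pointOfClosedPoint p z (isClosed_discrete _)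
  let l : Spec (CommRingCat.of Ω) ⟶ pullback V.hom f := c ≫ pullback.fst (pullback.fst V.hom f) vl
  have hl : l ≫ pullback.fst V.hom f = vl := by
    show (c ≫ pullback.fst _ _) ≫ _ = _
    rw [Category.assoc, pullback.condition, ← Category.assoc, pointOfClosedPoint_comp, Category.id_comp]
  have hξ : (l ≫ pullback.snd V.hom f) ≫ f = η := by
    rw [Category.assoc, ← pullback.condition, ← Category.assoc, hl]
    exact CategoryTheory.Over.w v
  refine ⟨l ≫ pullback.snd V.hom f, hξ, ?_⟩
  have e : (EtFound.liftPt f hξ v).left = l :=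
    pullback.hom_ext ((EtFound.liftPt_fst f hξ v).trans hl.symm) (pullback.lift_snd _ _ _)
  rw [e]
  show (c ≫ pullback.fst (pullback.fst V.hom f) vl).base _ = x
  rw [Scheme.Hom.comp_apply, pointOfClosedPoint_apply]
  exact hz

/-- sections with proper support are determined by their germs along the fibre -/
theorem stalkMapAt_injective (F : EtCoh.Ab X) (p : (EtCoh.stalk η).obj ((shriekSh f).obj F))
    (h : ∀ (ξ : Spec (CommRingCat.of Ω) ⟶ X) (hξ : ξ ≫ f = η), (stalkMapAt f hξ).app F p = 0) : p = 0 := by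
  obtain ⟨V, v, s, rfl⟩ := (Scheme.pointSmallEtale η).toPresheafFiber_jointly_surjective p
  obtain ⟨hZc, hZp⟩ := (mem_shriekSubgroup_iff f).1 s.2
  let i := (Scheme.IdealSheafData.vanishingIdeal ⟨EtShriek.sectSupp F _ s.1, hZc⟩).subschemeι
  let G : V.left.Opens := ⟨(Set.range (i ≫ EtShriek.prV f V))ᶜ,
    ((i ≫ EtShriek.prV f V).isClosedMap.isClosed_range).isOpen_compl⟩
  have hG : (v.left : Spec (CommRingCat.of Ω) ⟶ V.left).base (default : Spec (CommRingCat.of Ω)) ∈ G := by
    rintro ⟨z, hz⟩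
    rw [Scheme.Hom.comp_apply] at hz
    have hzs : i.base z ∈ EtShriek.sectSupp F _ s.1 := (QCoh.range_vanishing hZc).le ⟨z, rfl⟩
    obtain ⟨ξ, hξ, he⟩ := exists_liftPt_eq f v (i.base z) hz
    rw [← he] at hzs
    exact (mem_sectSupp_iff_germ _ _ _).1 hzs ((stalkMapAt_germ f hξ F v s).symm.trans (h ξ hξ))
  obtain ⟨w, hw, -⟩ := EtFound.exists_lift_point (EtFound.restrictEtaleHom V G) v ⟨_, hG⟩ rfl
  have h0 : ((shriekSh f).obj F).obj.map (EtFound.restrictEtaleHom V G).op s = 0 := by
    apply Subtype.ext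
    refine eq_zero_of_sectSupp_eq_empty ?_
    show EtShriek.sectSupp F _ (F.obj.map ((EtCoh.bc f).map (EtFound.restrictEtaleHom V G)).op s.1) = ∅
    rw [sectSupp_map]
    refine Set.eq_empty_of_forall_notMem fun x hx => ?_
    obtain ⟨z, hz⟩ := (QCoh.range_vanishing hZc).ge hx
    refine ((EtShriek.prV f (EtFound.restrictEtale V G)).base x).2 ⟨z, ?_⟩
    rw [Scheme.Hom.comp_apply]
    refine (congrArg (EtShriek.prV f V).base hz).trans ?_
    exact (Scheme.Hom.comp_apply _ _ x).symm.trans ((congrArg (fun k : _ ⟶ V.left => k.base x)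
      (EtCoh.isPullback_bc_map f (EtFound.restrictEtaleHom V G)).w).trans (Scheme.Hom.comp_apply _ _ x))
  rw [← hw]
  refine ((Scheme.pointSmallEtale η).toPresheafFiber_w_apply (EtFound.restrictEtaleHom V G) w _ s).symm.trans ?_
  refine (congrArg _ h0).trans ?_
  exact map_zero _

theorem ext_stalkMapAt (F : EtCoh.Ab X) (p q : (EtCoh.stalk η).obj ((shriekSh f).obj F))
    (h : ∀ (ξ : Spec (CommRingCat.of Ω) ⟶ X) (hξ : ξ ≫ f = η), (stalkMapAt f hξ).app F p = (stalkMapAt f hξ).app F q) :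
    p = q := by
  rw [← sub_eq_zero]
  refine stalkMapAt_injective f F _ fun ξ hξ => ?_
  rw [map_sub, h ξ hξ, sub_self]

/-- only finitely many germs along the fibre are nonzero -/
theorem finite_stalkMapAt_ne_zero (F : EtCoh.Ab X) (p : (EtCoh.stalk η).obj ((shriekSh f).obj F)) :
    {ξ : {ξ : Spec (CommRingCat.of Ω) ⟶ X // ξ ≫ f = η} | (stalkMapAt f ξ.2).app F p ≠ 0}.Finite := by
  obtain ⟨V, v, s, rfl⟩ := (Scheme.pointSmallEtale η).toPresheafFiber_jointly_surjective p
  let Z := EtShriek.sectSupp F ((EtCoh.bc f).obj V) s.1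
  let vl : Spec (CommRingCat.of Ω) ⟶ V.left := v.left
  let P := pullback (pullback.fst V.hom f) vl
  have : LocallyQuasiFinite (pullback.fst V.hom f) := MorphismProperty.pullback_fst _ _ ‹_›
  have : LocallyQuasiFinite (pullback.snd (pullback.fst V.hom f) vl) := MorphismProperty.pullback_snd _ _ ‹_›
  have : IsLocallyArtinian P := .of_locallyQuasiFinite (pullback.snd (pullback.fst V.hom f) vl)
  have : DiscreteTopology P := inferInstance
  have hZ : ClSub.IsProperOver (pullback.snd (pullback.fst V.hom f) vl) ((pullback.fst (pullback.fst V.hom f) vl).base ⁻¹' Z) :=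
    QCoh.IsProperOver.baseChange (IsPullback.of_hasPullback _ _) ((mem_shriekSubgroup_iff f).1 s.2)
  obtain ⟨hc, hp⟩ := hZ
  have hfin : Set.Finite ((pullback.fst (pullback.fst V.hom f) vl).base ⁻¹' Z) := by
    let i := (Scheme.IdealSheafData.vanishingIdeal ⟨_, hc⟩).subschemeι
    have : IsProper (i ≫ pullback.snd (pullback.fst V.hom f) vl) := hp
    have : CompactSpace (Scheme.IdealSheafData.vanishingIdeal ⟨_, hc⟩).subscheme :=
      QuasiCompact.compactSpace_of_compactSpace (i ≫ pullback.snd (pullback.fst V.hom f) vl)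
    rw [← QCoh.range_vanishing hc]
    exact (isCompact_range i.continuous).finite_of_discrete
  let φ : {ξ : Spec (CommRingCat.of Ω) ⟶ X // ξ ≫ f = η} → {c : Spec (CommRingCat.of Ω) ⟶ P // c ≫ pullback.snd _ _ = 𝟙 _} :=
    fun ξ => ⟨pullback.lift ((EtFound.liftPt f ξ.2 v).left : Spec (CommRingCat.of Ω) ⟶ pullback V.hom f) (𝟙 _)
      ((EtFound.liftPt_fst f ξ.2 v).trans (Category.id_comp _).symm), pullback.lift_snd _ _ _⟩
  have hφ : Function.Injective fun ξ => (φ ξ).1.base (IsLocalRing.closedPoint Ω) := fun a b e => by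
    have e' := ext_of_apply_closedPoint_eq _ (φ a).2 (φ b).2 e
    have e1 := congrArg (fun c : Spec (CommRingCat.of Ω) ⟶ P => c ≫ pullback.fst _ _ ≫ pullback.snd V.hom f) e'
    simp only [φ, pullback.lift_fst_assoc] at e1
    exact Subtype.ext ((pullback.lift_snd _ _ _).symm.trans (e1.trans (pullback.lift_snd _ _ _)))
  refine (hfin.preimage hφ.injOn).subset fun ξ hξ => ?_
  have h1 : (Scheme.pointSmallEtale ξ.1).toPresheafFiber _ (EtFound.liftPt f ξ.2 v) F.obj s.1 ≠ 0 :=
    fun e => hξ ((stalkMapAt_germ f ξ.2 F v s).trans e)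
  show (pullback.fst (pullback.fst V.hom f) vl).base ((φ ξ).1.base _) ∈ Z
  rw [← Scheme.Hom.comp_apply,
    show (φ ξ).1 ≫ pullback.fst (pullback.fst V.hom f) vl = (EtFound.liftPt f ξ.2 v).left from pullback.lift_fst _ _ _]
  exact Set.mem_of_eq_of_mem (congrArg _ (Subsingleton.elim (α := Spec (CommRingCat.of Ω)) _ _))
    ((mem_sectSupp_iff_germ _ _ _).2 h1)

variable [IsSeparated f]

/-- any germ at a point of the fibre extends by zero on the rest of the fibre -/
theorem exists_single (F : EtCoh.Ab X) {ξ : Spec (CommRingCat.of Ω) ⟶ X} (hξ : ξ ≫ f = η)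
    (a : (EtCoh.stalk ξ).obj F) :
    ∃ p : (EtCoh.stalk η).obj ((shriekSh f).obj F), (stalkMapAt f hξ).app F p = a ∧
      ∀ (ξ' : Spec (CommRingCat.of Ω) ⟶ X) (hξ' : ξ' ≫ f = η), ξ' ≠ ξ → (stalkMapAt f hξ').app F p = 0 := by
  obtain ⟨W₀, w₀, t₀, rfl⟩ := (Scheme.pointSmallEtale ξ).toPresheafFiber_jointly_surjective a
  obtain ⟨A, hA, hwA, -⟩ := exists_isAffineOpen_mem_and_subset (U := (⊤ : W₀.left.Opens))
    (x := (w₀.left : Spec (CommRingCat.of Ω) ⟶ W₀.left).base (default : Spec (CommRingCat.of Ω))) trivial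
  obtain ⟨w, hw, -⟩ := EtFound.exists_lift_point (EtFound.restrictEtaleHom W₀ A) w₀ ⟨_, hwA⟩ rfl
  let W := EtFound.restrictEtale W₀ A
  have : IsAffine W.left := hA
  have : IsSeparated (terminal.from W.left) := inferInstance
  have : IsSeparated (W.hom ≫ terminal.from X) := by rwa [show W.hom ≫ terminal.from X = terminal.from W.left from terminal.hom_ext _ _]
  have : IsSeparated W.hom := IsSeparated.of_comp W.hom (terminal.from X)
  obtain ⟨V, v, J, e, b, l, he, he', hef, hbe, hlb, hle, huniq⟩ := exists_piece f hξ W w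
  let P := (EtCoh.bc f).obj V
  let O : P.left.Opens := e.opensRange
  let O' : P.left.Opens := ⟨(Set.range e.base)ᶜ, e.isClosedEmbedding.isClosed_range.isOpen_compl⟩
  let Os : ULift.{u} Bool → P.left.Opens := fun c => bif c.down then O else O'
  let eO : O.toScheme ≅ J := (Scheme.Hom.isoOpensRange e).symm
  have heO : eO.hom ≫ e = O.ι := Scheme.Hom.isoOpensRange_inv_comp e
  let m : EtFound.restrictEtale P O ⟶ W₀ :=
    (MorphismProperty.Over.homMk (eO.hom ≫ b)
      ((Category.assoc _ _ _).trans ((congrArg (eO.hom ≫ ·) hbe).trans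
        ((Category.assoc _ _ _).symm.trans (congrArg (· ≫ pullback.snd V.hom f) heO)))) trivial : EtFound.restrictEtale P O ⟶ W) ≫ EtFound.restrictEtaleHom W₀ A
  let ts : ∀ c, ToType (F.obj.obj (op (EtFound.restrictEtale P (Os c)))) := fun c => match c with
    | ⟨true⟩ => F.obj.map m.op t₀
    | ⟨false⟩ => (0 : EtCoh.sect F (EtFound.restrictEtale P O'))
  obtain ⟨S, hS⟩ := EtFound.exists_glue_disjoint F P Os (fun c d hcd => by
      refine disjoint_iff.2 (eq_bot_iff.2 fun x hx => ?_)
      obtain ⟨c⟩ := c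
      obtain ⟨d⟩ := d
      cases c <;> cases d
      · exact (hcd rfl).elim
      · exact (hx.1 hx.2).elim
      · exact (hx.2 hx.1).elim
      · exact (hcd rfl).elim) (eq_top_iff.2 fun x _ => by
      by_cases hx : x ∈ Set.range e.base
      · exact Opens.mem_iSup.2 ⟨⟨true⟩, hx⟩
      · exact Opens.mem_iSup.2 ⟨⟨false⟩, hx⟩) ts
  have hS1 : F.obj.map (EtFound.restrictEtaleHom P O).op S = F.obj.map m.op t₀ := hS ⟨true⟩
  have hS0 : F.obj.map (EtFound.restrictEtaleHom P O').op S = 0 := hS ⟨false⟩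
  have hsupp : EtShriek.sectSupp F P S ⊆ Set.range e.base := fun x hx => by
    by_contra hx'
    exact hx _ (EtFound.restrictEtaleHom P O') ⟨⟨x, hx'⟩, rfl⟩ hS0
  have hSmem : S ∈ EtShriek.shriekSubgroup f F V := by
    rw [mem_shriekSubgroup_iff]
    have : IsProper (e ≫ EtShriek.prV f V) := inferInstance
    exact QCoh.IsProperOver.subset ((QCoh.isProperOver_iff e).2 this) (isClosed_sectSupp _ _) hsupp
  refine ⟨(Scheme.pointSmallEtale η).toPresheafFiber V v ((shriekSh f).obj F).obj ⟨S, hSmem⟩, ?_, fun ξ' hξ' hne => ?_⟩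
  · rw [stalkMapAt_germ]
    obtain ⟨q, hq, -⟩ := EtFound.exists_lift_point (EtFound.restrictEtaleHom P O) (EtFound.liftPt f hξ v)
      ⟨_, ⟨l.base (default : Spec (CommRingCat.of Ω)), (Scheme.Hom.comp_apply _ _ _).symm.trans
        (congrArg (fun k : Spec (CommRingCat.of Ω) ⟶ P.left => k.base (default : Spec (CommRingCat.of Ω))) hle)⟩⟩ rfl
    rw [← hq]
    refine ((Scheme.pointSmallEtale ξ).toPresheafFiber_w_apply (EtFound.restrictEtaleHom P O) q F.obj S).symm.trans ?_
    rw [hS1]
    refine ((Scheme.pointSmallEtale ξ).toPresheafFiber_w_apply m q F.obj t₀).trans ?_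
    refine congrArg (fun u₀ => (Scheme.pointSmallEtale ξ).toPresheafFiber W₀ u₀ F.obj t₀) ?_
    rw [← hw]
    let ql : Spec (CommRingCat.of Ω) ⟶ O.toScheme := q.left
    have hql : ql ≫ eO.hom = l := by
      rw [← cancel_mono e, Category.assoc, heO, hle]
      exact congr(($hq).left)
    show (Scheme.pointSmallEtale ξ).fiber.map (_ ≫ _) q = _
    rw [Functor.map_comp_apply]
    refine congrArg _ (CategoryTheory.Over.OverMorphism.ext ?_)
    show ql ≫ eO.hom ≫ b = _
    rw [reassoc_of% hql]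
    exact hlb
  · rw [stalkMapAt_germ]
    by_contra h0
    obtain ⟨z, hz⟩ := hsupp ((mem_sectSupp_iff_germ _ _ _).2 h0)
    let c : Spec (CommRingCat.of Ω) ⟶ P.left := (EtFound.liftPt f hξ' v).left
    let l' : Spec (CommRingCat.of Ω) ⟶ J := IsOpenImmersion.lift e c (by
      rintro _ ⟨r, rfl⟩
      rw [Subsingleton.elim r default]
      exact ⟨z, hz⟩)
    have hl' : l' ≫ e = c := IsOpenImmersion.lift_fac _ _ _
    have : l' = l := huniq l' (by
      rw [← Category.assoc, hl']
      exact EtFound.liftPt_fst f hξ' v)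
    have e2 := congrArg (· ≫ pullback.snd V.hom f) (hl'.symm.trans ((congrArg (· ≫ e) this).trans hle))
    exact hne ((pullback.lift_snd _ _ _).symm.trans (e2.trans (pullback.lift_snd _ _ _)))

variable (η) in
/-- germs along the fibre identify the stalk with the finitely supported families -/
theorem exists_of_finite (F : EtCoh.Ab X) (g : ∀ ξ : {ξ : Spec (CommRingCat.of Ω) ⟶ X // ξ ≫ f = η}, (EtCoh.stalk ξ.1).obj F)
    (hg : {ξ | g ξ ≠ 0}.Finite) :
    ∃ p : (EtCoh.stalk η).obj ((shriekSh f).obj F), ∀ ξ, (stalkMapAt f ξ.2).app F p = g ξ := by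
  classical
  choose q hq hq' using fun ξ : {ξ : Spec (CommRingCat.of Ω) ⟶ X // ξ ≫ f = η} => exists_single f F ξ.2 (g ξ)
  refine ⟨∑ ξ ∈ hg.toFinset, q ξ, fun ξ => ?_⟩
  rw [map_sum, Finset.sum_eq_single ξ (fun ξ' _ hne => hq' ξ' ξ.1 ξ.2 fun e => hne (Subtype.ext e.symm))
    (fun h => ?_)]
  · exact hq ξ
  · rw [hq ξ]
    by_contra h'
    exact h (hg.mem_toFinset.2 h')

end Groth.Agent.EtShriekLib
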